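/-
Control of strong fusion by the normalizer of `Z(J(S))`: generalities.

* `cmod F A` : the elements acting trivially on `A` modulo `F`;
* `Good`, `Real`, `Ctrl`, `Concl`;
* `ctrl_composite` : control passes from `K R` and `N(R ∩ K)` to the whole group;
* `exists_grow` : growing a subgroup generated by elements of an invariant set.
-/
import Cfsg.Agent.Lib.PReduced.Basic
import Cfsg.Agent.Lib.PReduced.Tools
import Cfsg.Agent.Lib.WeaklyClosed.Basic
import Cfsg.Agent.Lib.Fusion.SylowIn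
import Cfsg.Agent.Lib.Fusion.TameChain
import Cfsg.Agent.Lib.PLocal.Functor
import Cfsg.Agent.Lib.PLocal.Action
import Cfsg.Agent.Lib.Involves.Basic
import Cfsg.Agent.Lib.PGroup.Basic
import Cfsg.Agent.Lib.Coprime.Abelian

set_option autoImplicit false

namespace Cfsg.Agent.ZJFusion

open Subgroup Cfsg.Agent Cfsg.Agent.WeaklyClosed

universe u

variable {G : Type u} [Group G] {p : ℕ}

/-! ### Centralisers modulo a normal subgroup -/

/-- The elements acting trivially on `A` modulo `F`. -/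
def cmod (F : Subgroup G) [F.Normal] (A : Set G) : Subgroup G :=
  (centralizer ((QuotientGroup.mk' F) '' A)).comap (QuotientGroup.mk' F)

theorem mem_cmod {F : Subgroup G} [F.Normal] {A : Set G} {g : G} :
    g ∈ cmod F A ↔ ∀ a ∈ A, g * a * g⁻¹ * a⁻¹ ∈ F := by
  rw [cmod, mem_comap, mem_centralizer_iff]
  simp only [Set.forall_mem_image]
  refine forall₂_congr fun a _ => ?_
  rw [← QuotientGroup.eq_one_iff, QuotientGroup.mk_mul, QuotientGroup.mk_mul, QuotientGroup.mk_mul,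
    QuotientGroup.mk_inv, QuotientGroup.mk_inv, mul_inv_eq_one, mul_inv_eq_iff_eq_mul]
  exact eq_comm

theorem cmod_anti {F : Subgroup G} [F.Normal] {A B : Set G} (h : A ⊆ B) : cmod F B ≤ cmod F A :=
  fun _ hg => mem_cmod.2 fun a ha => mem_cmod.1 hg a (h ha)

theorem le_cmod_iff {F : Subgroup G} [F.Normal] {A B : Subgroup G} :
    B ≤ cmod F (A : Set G) ↔ A ≤ cmod F (B : Set G) := by
  have key : ∀ A B : Subgroup G, B ≤ cmod F (A : Set G) → A ≤ cmod F (B : Set G) := by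
    intro A B h a ha
    refine mem_cmod.2 fun b hb => ?_
    have h1 := inv_mem (mem_cmod.1 (h hb) a ha)
    rw [mul_inv_rev, mul_inv_rev, mul_inv_rev, inv_inv, inv_inv, ← mul_assoc, ← mul_assoc] at h1
    exact h1
  exact ⟨key A B, key B A⟩

theorem le_cmod_self (F : Subgroup G) [F.Normal] (A : Set G) : F ≤ cmod F A := fun f hf =>
  mem_cmod.2 fun a _ => by
    rw [show f * a * f⁻¹ * a⁻¹ = f * (a * f⁻¹ * a⁻¹) by group]
    exact mul_mem hf (Normal.conj_mem ‹F.Normal› _ (inv_mem hf) a)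

theorem conj_mem_cmod {F : Subgroup G} [F.Normal] {A : Set G} {g n : G}
    (hn : ∀ a ∈ A, n⁻¹ * a * n ∈ A) (hg : g ∈ cmod F A) : n * g * n⁻¹ ∈ cmod F A :=
  mem_cmod.2 fun a ha => by
    have := Normal.conj_mem ‹F.Normal› _ (mem_cmod.1 hg _ (hn a ha)) n
    convert this using 1; group

theorem le_normalizer_cmod {F : Subgroup G} [F.Normal] {A : Subgroup G} :
    normalizer (A : Set G) ≤ normalizer ((cmod F (A : Set G) : Subgroup G) : Set G) := fun n hn =>
  mem_normalizer_iff.2 fun g =>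
    ⟨conj_mem_cmod fun a ha => (mem_normalizer_iff''.1 hn a).1 ha, fun h => by
      have := conj_mem_cmod (n := n⁻¹) (fun a ha => by rw [inv_inv]; exact (mem_normalizer_iff.1 hn a).1 ha) h
      simpa [mul_assoc] using this⟩

theorem le_normalizer_of_le_cmod {F D : Subgroup G} [F.Normal] (hFD : F ≤ D) {g : G}
    (hg : g ∈ cmod F (D : Set G)) : g ∈ normalizer (D : Set G) := by
  have key : ∀ g ∈ cmod F (D : Set G), ∀ d ∈ D, g * d * g⁻¹ ∈ D := fun g hg d hd => by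
    have := mul_mem (hFD (mem_cmod.1 hg d hd)) hd
    rwa [inv_mul_cancel_right] at this
  refine mem_normalizer_iff.2 fun d => ⟨key g hg d, fun h => ?_⟩
  simpa [mul_assoc] using key g⁻¹ (inv_mem hg) _ h

/-- Elements of order prime to `p` stabilising `P > A > 1` centralise the `p`-group `P`. -/
theorem commute_of_stab [Finite G] [Fact p.Prime] {P A : Subgroup G} (hP : IsPGroup p ↥P) (hA : A ≤ P)
    {c : G} (hc : (orderOf c).Coprime p) (hcA : ∀ a ∈ A, c * a = a * c)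
    (hcP : ∀ x ∈ P, c * x * c⁻¹ * x⁻¹ ∈ A) : c ∈ centralizer (P : Set G) := by
  have h1 : zpowers c ≤ centralizer (A : Set G) :=
    zpowers_le.2 (mem_centralizer_iff.2 fun a ha => (hcA a ha).symm)
  have hN : c ∈ normalizer (P : Set G) := by
    refine mem_normalizer_fintype fun x hx => ?_
    have := mul_mem (hA (hcP x hx)) hx
    rwa [inv_mul_cancel_right] at this
  have h2 : zpowers c ≤ stab P A := zpowers_le.2 ⟨hN, (mem_normalizer_iff.2 fun a => by
    constructor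
    · intro ha; rw [hcA a ha, mul_inv_cancel_right]; exact ha
    · intro ha
      have h3 := hcA _ ha
      have h4 : a = c * a * c⁻¹ := by
        calc a = c⁻¹ * ((c * a * c⁻¹) * c) := by group
          _ = c⁻¹ * (c * (c * a * c⁻¹)) := by rw [← h3]
          _ = c * a * c⁻¹ := by group
      rw [h4]; exact ha), hcP⟩
  obtain ⟨k, hk⟩ := PReduced.pMod_of_stabilizes hP hA h1 (fun x hx => (h2 hx).2.2) c (mem_zpowers c)
  exact Coprime.mem_of_pow_mem (hc.pow_right k) hk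

/-! ### Realised conjugations -/

/-- `p`-Sylow subgroups with the given `Z(J)`. -/
def Good (Y : Subgroup G) (S : Sylow p G) : Prop := Cfsg.centerThompsonAOf (S : Subgroup G) = Y

/-- Conjugation by `g` on `A` is induced from `N(Y)`. -/
def Real (Y A : Subgroup G) (g : G) : Prop :=
  ∃ n ∈ normalizer (Y : Set G), ∀ a ∈ A, n * a * n⁻¹ = g * a * g⁻¹

/-- All conjugations in `M` between subgroups of `R` are induced from `N(Y)`. -/
def Ctrl (Y M R : Subgroup G) : Prop := ∀ g ∈ M, ∀ A ≤ R, cj g A ≤ R → Real Y A g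

/-- The conclusion. -/
def Concl (p : ℕ) [Fact p.Prime] (Y : Subgroup G) : Prop :=
  Cfsg.Involves ↥(Cfsg.fOver (ZMod p)) ↥(normalizer (Y : Set G)) ∧
    ∃ C ≤ Y, Nat.card C = p ∧ (normalizer (Y : Set G) ⊓ centralizer (C : Set G)).relIndex
      (normalizer (Y : Set G) ⊓ normalizer (C : Set G)) = p - 1

theorem Real.mono {Y A B : Subgroup G} {g : G} (h : Real Y B g) (hAB : A ≤ B) : Real Y A g :=
  let ⟨n, hn, h⟩ := h; ⟨n, hn, fun a ha => h a (hAB ha)⟩

theorem Real.of_mem {Y A : Subgroup G} {g : G} (h : g ∈ normalizer (Y : Set G)) : Real Y A g :=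
  ⟨g, h, fun _ _ => rfl⟩

theorem Real.mul {Y A : Subgroup G} {g h : G} (hg : Real Y A g) (hh : Real Y (cj g A) h) :
    Real Y A (h * g) := by
  obtain ⟨n, hn, h1⟩ := hg
  obtain ⟨m, hm, h2⟩ := hh
  refine ⟨m * n, mul_mem hm hn, fun a ha => ?_⟩
  calc m * n * a * (m * n)⁻¹ = m * (n * a * n⁻¹) * m⁻¹ := by group
    _ = h * g * a * (h * g)⁻¹ := by rw [h1 a ha, h2 _ (conj_mem_cj ha)]; group

theorem Real.inv {Y A : Subgroup G} {g : G} (hg : Real Y A g) : Real Y (cj g A) g⁻¹ := by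
  obtain ⟨n, hn, h⟩ := hg
  refine ⟨n⁻¹, inv_mem hn, ?_⟩
  rintro _ ⟨a, ha, rfl⟩
  show n⁻¹ * (g * a * g⁻¹) * n⁻¹⁻¹ = g⁻¹ * (g * a * g⁻¹) * g⁻¹⁻¹
  rw [← h a ha]
  conv_rhs => rw [h a ha]
  group

theorem Real.congr {Y A : Subgroup G} {g h : G} (hg : Real Y A g)
    (he : ∀ a ∈ A, g * a * g⁻¹ = h * a * h⁻¹) : Real Y A h :=
  let ⟨n, hn, h1⟩ := hg; ⟨n, hn, fun a ha => (h1 a ha).trans (he a ha)⟩

theorem Ctrl.mono {Y M R M' R' : Subgroup G} (h : Ctrl Y M R) (hM : M' ≤ M) (hR : R' ≤ R) :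
    Ctrl Y M' R' := fun g hg A hA hgA => h g (hM hg) A (hA.trans hR) (hgA.trans hR)

theorem ctrl_of_le {Y M : Subgroup G} (R : Subgroup G) (h : M ≤ normalizer (Y : Set G)) :
    Ctrl Y M R := fun _ hg _ _ _ => Real.of_mem (h hg)

theorem conj_le_iff {g : G} {A B : Subgroup G} : cj g A ≤ B ↔ ∀ a ∈ A, g * a * g⁻¹ ∈ B :=
  ⟨fun h _ ha => h (conj_mem_cj ha), fun h => by rintro _ ⟨a, ha, rfl⟩; exact h a ha⟩

/-- Control passes from `K R` and `N(R ∩ K)` to a group with normal subgroup `K`. -/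
theorem ctrl_composite [Finite G] [Fact p.Prime] {Y R L K : Subgroup G} (hR : Fusion.IsSylowIn p R L)
    (hKL : K ≤ L) (hKn : L ≤ normalizer (K : Set G)) (h1 : Ctrl Y (K ⊔ R) R)
    (h2 : Ctrl Y (L ⊓ normalizer ((R ⊓ K : Subgroup G) : Set G)) R) : Ctrl Y L R := by
  intro g hg A hA hgA
  have hRK : R ≤ normalizer ((R ⊓ K : Subgroup G) : Set G) := fun r hr =>
    mem_normalizer_fintype fun x hx => mem_inf.2
      ⟨mul_mem (mul_mem hr (mem_inf.1 hx).1) (inv_mem hr),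
        (mem_normalizer_iff.1 (hKn (hR.1 hr)) x).1 (mem_inf.1 hx).2⟩
  have hKnL : (K.subgroupOf L).Normal := (normal_subgroupOf_iff_le_normalizer hKL).2 hKn
  obtain ⟨SR, hSR⟩ := (Fusion.isSylowIn_iff_exists hR.1).1 hR
  obtain ⟨a, ha, c, hc, hac⟩ := PReduced.frattini_sylow_inf_mul SR (K.subgroupOf L) ⟨g, hg⟩
  have hgac : g = (a : G) * c := congrArg Subtype.val hac
  have hcK : (c : G) ∈ K := hc
  have haN : (a : G) ∈ normalizer ((R ⊓ K : Subgroup G) : Set G) := by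
    refine mem_normalizer_fintype fun x hx => ?_
    have h3 := (mem_normalizer_iff.1 ha ⟨x, hR.1 hx.1⟩).1
      ⟨by rw [hSR]; exact hx.1, hx.2⟩
    exact mem_inf.2 ⟨by have h4 := h3.1; rw [hSR] at h4; exact h4, h3.2⟩
  have hKR : K ⊔ R ≤ L := sup_le hKL hR.1
  set N := (K ⊔ R) ⊓ normalizer ((R ⊓ K : Subgroup G) : Set G) with hN
  have hRN : Fusion.IsSylowIn p R N := hR.mono (le_inf le_sup_right hRK) (inf_le_left.trans hKR)
  have hB : cj (c : G) A ≤ N := by
    refine conj_le_iff.2 fun x hx => mem_inf.2 ⟨mul_mem (mul_mem (mem_sup_left hcK) (mem_sup_right (hA hx)))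
      (inv_mem (mem_sup_left hcK)), ?_⟩
    have h5 : (c : G) * x * (c : G)⁻¹ = (a : G)⁻¹ * (g * x * g⁻¹) * a := by rw [hgac]; group
    rw [h5]
    exact mul_mem (mul_mem (inv_mem haN) (hRK (hgA (conj_mem_cj hx)))) haN
  obtain ⟨e, he, heB⟩ := hRN.exists_conj_le ((hR.2.1.to_le hA).map _) hB
  have hek : cj (e * c) A ≤ R := by rw [cj_mul]; exact conj_le_iff.2 heB
  have hA1 : Real Y A (e * c) :=
    h1 _ (mul_mem (mem_inf.1 he).1 (mem_sup_left hcK)) A hA hek
  have hA2 : Real Y (cj (e * c) A) (a * e⁻¹) := by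
    refine h2 _ (mem_inf.2 ⟨mul_mem a.2 (inv_mem (hKR (mem_inf.1 he).1)),
      mul_mem haN (inv_mem (mem_inf.1 he).2)⟩) _ hek ?_
    rw [← cj_mul, show (a : G) * e⁻¹ * (e * c) = g by rw [hgac]; group]
    exact hgA
  have := hA1.mul hA2
  rwa [show (a : G) * e⁻¹ * (e * c) = g by rw [hgac]; group] at this

/-- An invariant set outgrowing a subgroup has an element normalising it. -/
theorem exists_grow [Finite G] {R P : Subgroup G} (hR : IsPGroup p ↥R) (hPR : P ≤ R) [Fact p.Prime]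
    {D : Set G} (hD : ∀ r ∈ R, ∀ d ∈ D, r * d * r⁻¹ ∈ D)
    (hgen : ∀ r ∈ R, (∀ d ∈ D, d ∈ P → r * d * r⁻¹ ∈ P) → r ∈ normalizer (P : Set G))
    (hne : ∃ d ∈ D, d ∈ R ∧ d ∉ P) :
    ∃ d ∈ D, d ∈ R ∧ d ∉ P ∧ d ∈ normalizer (P : Set G) := by
  by_contra hno
  push Not at hno
  set Q := R ⊓ normalizer (P : Set G)
  have hQ : Q = R := by
    by_contra hQR
    refine (TameChain.lt_normalizer hR (lt_of_le_of_ne inf_le_left hQR)).not_ge fun r hr => ⟨hr.1, ?_⟩
    refine hgen r hr.1 fun d hd hdP => ?_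
    have h1 : r * d * r⁻¹ ∈ Q := (mem_normalizer_iff.1 hr.2 d).1 ⟨hPR hdP, le_normalizer hdP⟩
    by_contra h2
    exact hno _ (hD r hr.1 d hd) h1.1 h2 h1.2
  obtain ⟨d, hd, hdR, hdP⟩ := hne
  exact hno d hd hdR hdP (hQ.ge hdR).2

/-- A subgroup not inside `F` contains a central element of order `p` modulo `F`. -/
theorem exists_central_mod [Finite G] [Fact p.Prime] (F : Subgroup G) [F.Normal] {P S : Subgroup G}
    (hS : IsPGroup p ↥S) (hPS : P ≤ S) (hPn : S ≤ normalizer (P : Set G)) (hne : ¬ P ≤ F) :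
    ∃ y ∈ P, y ∉ F ∧ y ^ p ∈ F ∧ S ≤ cmod F {y} := by
  set π := QuotientGroup.mk' F
  have hPS' : P.map π ≤ S.map π := map_mono hPS
  haveI : ((P.map π).subgroupOf (S.map π)).Normal :=
    (normal_subgroupOf_iff_le_normalizer hPS').2 ((map_mono hPn).trans (le_normalizer_map π))
  have hne' : (P.map π).subgroupOf (S.map π) ≠ ⊥ := by
    rw [Ne, subgroupOf_eq_bot, disjoint_iff, inf_eq_left.2 hPS']
    intro h
    rw [Subgroup.map_eq_bot_iff, QuotientGroup.ker_mk'] at h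
    exact hne h
  obtain ⟨z, hz, hzc, hzo⟩ := PGroup.exists_central_order_p (hS.map π) hne'
  obtain ⟨y, hy, hyz⟩ := mem_subgroupOf.1 hz
  refine ⟨y, hy, fun h => ?_, ?_, fun s hs => mem_cmod.2 ?_⟩
  · have h1 : z = 1 := Subtype.ext (hyz.symm.trans ((QuotientGroup.eq_one_iff y).2 h))
    rw [h1, orderOf_one] at hzo
    exact (Fact.out : p.Prime).ne_one hzo.symm
  · rw [← QuotientGroup.eq_one_iff, QuotientGroup.mk_pow]
    show π y ^ p = 1
    rw [hyz, ← hzo, ← Subgroup.coe_pow, pow_orderOf_eq_one, Subgroup.coe_one]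
  · rintro x rfl
    have h2 := congrArg Subtype.val (mem_center_iff.1 hzc ⟨π s, mem_map_of_mem π hs⟩)
    simp only [Subgroup.coe_mul, ← hyz] at h2
    rw [← QuotientGroup.eq_one_iff]
    show π (s * x * s⁻¹ * x⁻¹) = 1
    rw [map_mul, map_mul, map_mul, h2, map_inv, map_inv]
    group

/-! ### Good Sylow subgroups -/

theorem Good.le {Y : Subgroup G} {S : Sylow p G} (h : Good Y S) : Y ≤ (S : Subgroup G) :=
  h ▸ inf_le_left.trans (PLocal.thompsonSubgroupAOf_le _)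

theorem Good.normalizer_le {Y : Subgroup G} {S : Sylow p G} (h : Good Y S) :
    normalizer ((S : Subgroup G) : Set G) ≤ normalizer (Y : Set G) := fun n hn => by
  refine cj_eq_self_iff.1 ?_
  rw [← h]
  show (Cfsg.centerThompsonAOf (S : Subgroup G)).map (MulAut.conj n).toMonoidHom = _
  rw [PLocal.map_centerThompsonAOf _ (MulAut.conj n).injective.injOn]
  exact congrArg Cfsg.centerThompsonAOf (cj_of_mem hn)

theorem Good.le_normalizer {Y : Subgroup G} {S : Sylow p G} (h : Good Y S) :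
    (S : Subgroup G) ≤ normalizer (Y : Set G) := Subgroup.le_normalizer.trans h.normalizer_le

theorem exists_conj_sylow (S : Sylow p G) (n : G) :
    ∃ S' : Sylow p G, (S' : Subgroup G) = cj n (S : Subgroup G) :=
  ⟨n • S, rfl⟩

theorem Good.conj {Y : Subgroup G} {S S' : Sylow p G} (h : Good Y S) {n : G}
    (hn : n ∈ normalizer (Y : Set G)) (he : (S' : Subgroup G) = cj n (S : Subgroup G)) : Good Y S' := by
  rw [Good, he]
  show Cfsg.centerThompsonAOf ((S : Subgroup G).map (MulAut.conj n).toMonoidHom) = _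
  rw [← PLocal.map_centerThompsonAOf _ (MulAut.conj n).injective.injOn]
  exact (congrArg (cj n) h).trans (cj_of_mem hn)

theorem ctrl_of_controls [Finite G] [Fact p.Prime] {Y : Subgroup G} {S : Sylow p G} (hY : Good Y S)
    (h : Cfsg.ControlsStrongFusion p Y) : Ctrl Y ⊤ (S : Subgroup G) := by
  obtain ⟨T, hYT, hT⟩ := h
  obtain ⟨g, hg⟩ := MulAction.exists_smul_eq G T S
  have hgS : cj g (T : Subgroup G) = (S : Subgroup G) := congrArg Sylow.toSubgroup hg
  have hback : ∀ x ∈ (S : Subgroup G), g⁻¹ * x * g ∈ (T : Subgroup G) := fun x hx => mem_cj.1 (hgS ▸ hx)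
  obtain ⟨n, hn, hn'⟩ := (hT Y hYT).2 g⁻¹ (by
    rintro _ ⟨y, hy, rfl⟩
    show g⁻¹ * y * g⁻¹⁻¹ ∈ (T : Subgroup G)
    rw [inv_inv]
    exact hback y (hY.le hy))
  have hgN : g⁻¹ ∈ normalizer (Y : Set G) := by
    refine mem_normalizer_fintype fun y hy => ?_
    show g⁻¹ * y * g⁻¹⁻¹ ∈ Y
    rw [hn' y hy]
    exact (mem_normalizer_iff.1 hn y).1 hy
  intro x _ A hA hxA
  obtain ⟨m, hm, hm'⟩ := (hT ((fun a => g⁻¹ * a * g) '' (A : Set G)) (by
    rintro _ ⟨a, ha, rfl⟩; exact hback a (hA ha))).2 (g⁻¹ * x * g) (by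
    rintro _ ⟨_, ⟨a, ha, rfl⟩, rfl⟩
    have := hback _ (hxA (conj_mem_cj ha))
    show g⁻¹ * x * g * (g⁻¹ * a * g) * (g⁻¹ * x * g)⁻¹ ∈ (T : Subgroup G)
    rw [show g⁻¹ * x * g * (g⁻¹ * a * g) * (g⁻¹ * x * g)⁻¹ = g⁻¹ * (x * a * x⁻¹) * g by group]
    exact this)
  refine ⟨g * m * g⁻¹, mul_mem (mul_mem (by simpa using inv_mem hgN) hm) hgN, fun a ha => ?_⟩
  calc g * m * g⁻¹ * a * (g * m * g⁻¹)⁻¹ = g * (m * (g⁻¹ * a * g) * m⁻¹) * g⁻¹ := by group
    _ = g * (g⁻¹ * x * g * (g⁻¹ * a * g) * (g⁻¹ * x * g)⁻¹) * g⁻¹ := by rw [← hm' _ ⟨a, ha, rfl⟩]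
    _ = x * a * x⁻¹ := by group

theorem controls_of_ctrl {Y : Subgroup G} {S : Sylow p G} (hY : Good Y S)
    (h : Ctrl Y ⊤ (S : Subgroup G)) : Cfsg.ControlsStrongFusion p Y := by
  refine ⟨S, hY.le, fun A hA => ⟨hA, fun g hg => ?_⟩⟩
  obtain ⟨n, hn, hn'⟩ := h g (mem_top g) (closure A) ((closure_le _).2 hA)
    (by rw [cj, MonoidHom.map_closure]; exact (closure_le _).2 hg)
  exact ⟨n, hn, fun a ha => (hn' a (subset_closure ha)).symm⟩

end Cfsg.Agent.ZJFusion
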