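/-
The conclusion from the torus data.

* `exists_eigen` : lifting an eigenvector to a subgroup of order `p`;
* `concl_of_data`.
-/
import Cfsg.Agent.Lib.ZJFusion.Basic
import Cfsg.Agent.Lib.FSection.Basic

set_option autoImplicit false

namespace Cfsg.Agent.ZJFusion

open Subgroup Cfsg.Agent Cfsg.Agent.WeaklyClosed

universe u

variable {G : Type u} [Group G] {p : ℕ}

/-- An eigenvector of a `p'`-element on a section lifts to an element of order `p`. -/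
theorem exists_eigen [Finite G] [Fact p.Prime] {Y K : Subgroup G}
    (hYc : ∀ a ∈ Y, ∀ b ∈ Y, a * b = b * a) (hY : IsPGroup p ↥Y) {Q : Type u} [Group Q] (π : ↥K →* Q)
    (n u : ↥K) (hn : (n : G) ∈ normalizer (Y : Set G)) (hu : (u : G) ∈ Y) (hu1 : π u ≠ 1)
    (hup : π u ^ p = 1) (s : (ZMod p)ˣ) (hnu : π n * π u * (π n)⁻¹ = π u ^ (s : ZMod p).val) :
    ∃ c ∈ Y, orderOf c = p ∧ ∃ n' ∈ zpowers (n : G), n' * c * n'⁻¹ = c ^ (s : ZMod p).val := by
  classical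
  have hp : p.Prime := Fact.out
  set a := (s : ZMod p).val with ha
  obtain ⟨e, m, hm, he⟩ := Nat.exists_eq_pow_mul_and_not_dvd (orderOf_pos n).ne' p hp.ne_one
  set n₁ := n ^ p ^ e with hn₁
  have hn₁o : n₁ ^ m = 1 := by rw [hn₁, ← pow_mul, ← he, pow_orderOf_eq_one]
  have hord : orderOf (π u) = p := orderOf_eq_prime hup hu1
  have hiter : ∀ k : ℕ, π n ^ k * π u * (π n ^ k)⁻¹ = π u ^ a ^ k := by
    intro k
    induction k with
    | zero => simp
    | succ k ih =>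
      rw [pow_succ' (π n), show π n * π n ^ k * π u * (π n * π n ^ k)⁻¹ =
        π n * (π n ^ k * π u * (π n ^ k)⁻¹) * (π n)⁻¹ by group, ih, ← conj_pow, hnu, ← pow_mul, ← pow_succ']
  have hmod : ∀ x y : ℕ, (x : ZMod p) = y → π u ^ x = π u ^ y := fun x y h =>
    pow_eq_pow_iff_modEq.2 (hord.symm ▸ (ZMod.natCast_eq_natCast_iff x y p).1 h)
  have hn₁u : π n₁ * π u * (π n₁)⁻¹ = π u ^ a := by
    rw [hn₁, map_pow, hiter]
    exact hmod _ _ (by rw [Nat.cast_pow, ZMod.pow_card_pow])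
  obtain ⟨N, hN⟩ := IsPGroup.iff_card.1 hY
  set R := a ^ p ^ N with hR
  have hRa : (R : ZMod p) = a := by rw [hR, Nat.cast_pow, ZMod.pow_card_pow]
  have ha0 : (a : ZMod p) ≠ 0 := by rw [ha, ZMod.natCast_zmod_val]; exact s.ne_zero
  set M := m * (p - 1) with hM
  have hRM : ∀ g : G, g ∈ Y → g ^ R ^ M = g := by
    intro g hg
    have h1 : R ^ M ≡ 1 [MOD p ^ (N + 1)] := by
      rw [hR, hM, ← pow_mul, show p ^ N * (m * (p - 1)) = p ^ N * (p - 1) * m by ring, pow_mul]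
      have h2 : a.Coprime (p ^ (N + 1)) :=
        Nat.Coprime.pow_right _ ((hp.coprime_iff_not_dvd.2 fun h => ha0
          ((ZMod.natCast_eq_zero_iff a p).2 h)).symm)
      have h3 := Nat.ModEq.pow_totient h2
      rw [Nat.totient_prime_pow_succ hp] at h3
      simpa using h3.pow m
    have h4 : g ^ Nat.card Y = 1 := congrArg Subtype.val (pow_card_eq_one' (x := (⟨g, hg⟩ : ↥Y)))
    rw [hN] at h4
    conv_rhs => rw [← pow_one g]
    exact pow_eq_pow_iff_modEq.2 ((h1.of_dvd (pow_dvd_pow p N.le_succ)).of_dvd (orderOf_dvd_of_pow_eq_one h4))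
  have hn₁Y : (n₁ : G) ∈ normalizer (Y : Set G) := by
    rw [hn₁, SubgroupClass.coe_pow]; exact pow_mem hn _
  -- the twisted products
  let f : ℕ → ↥K := fun k => Nat.rec (motive := fun _ => ↥K) 1 (fun k w => w ^ R * (n₁ ^ k * u * (n₁ ^ k)⁻¹)) k
  have hcY : ∀ k : ℕ, ((n₁ ^ k * u * (n₁ ^ k)⁻¹ : ↥K) : G) ∈ Y := fun k => by
    push_cast
    exact (mem_normalizer_iff.1 (pow_mem hn₁Y k) _).1 hu
  have hfY : ∀ k, ((f k : ↥K) : G) ∈ Y := by
    intro k
    induction k with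
    | zero => exact one_mem Y
    | succ k ih => exact mul_mem (by rw [SubgroupClass.coe_pow]; exact pow_mem ih R) (hcY k)
  have hcm : ∀ x y : ↥K, (x : G) ∈ Y → (y : G) ∈ Y → Commute x y := fun x y hx hy =>
    Subtype.ext (hYc _ hx _ hy)
  have hshift : ∀ k, n₁ * f k * n₁⁻¹ * u ^ R ^ k = f (k + 1) := by
    intro k
    induction k with
    | zero => simp [f]
    | succ k ih =>
      have h1 : n₁ * f (k + 1) * n₁⁻¹ = (n₁ * f k * n₁⁻¹) ^ R * (n₁ ^ (k + 1) * u * (n₁ ^ (k + 1))⁻¹) := by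
        show n₁ * (f k ^ R * (n₁ ^ k * u * (n₁ ^ k)⁻¹)) * n₁⁻¹ = _
        rw [conj_pow, pow_succ' n₁ k]; group
      have h2 : Commute (n₁ ^ (k + 1) * u * (n₁ ^ (k + 1))⁻¹) (u ^ R ^ (k + 1)) :=
        hcm _ _ (hcY _) (by rw [SubgroupClass.coe_pow]; exact pow_mem hu _)
      have h3 : Commute (n₁ * f k * n₁⁻¹) (u ^ R ^ k) :=
        hcm _ _ (by push_cast; exact (mem_normalizer_iff.1 hn₁Y _).1 (hfY k))
          (by rw [SubgroupClass.coe_pow]; exact pow_mem hu _)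
      rw [h1, mul_assoc, h2.eq, ← mul_assoc, pow_succ R k, pow_mul, ← h3.mul_pow, ih]
  have hn₁M : n₁ ^ M = 1 := by rw [hM, pow_mul, hn₁o, one_pow]
  have huM : u ^ R ^ M = u := Subtype.ext (by rw [SubgroupClass.coe_pow]; exact hRM _ hu)
  have hfix : n₁ * f M * n₁⁻¹ = f M ^ R := by
    have h1 := hshift M
    rw [huM] at h1
    have h2 : f (M + 1) = f M ^ R * u := by
      show f M ^ R * (n₁ ^ M * u * (n₁ ^ M)⁻¹) = _
      rw [hn₁M]; group
    rw [h2] at h1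
    exact mul_right_cancel h1
  have hπiter : ∀ k, π (n₁ ^ k * u * (n₁ ^ k)⁻¹) = π u ^ a ^ k := by
    intro k
    rw [map_mul, map_mul, map_inv, map_pow]
    induction k with
    | zero => simp
    | succ k ih =>
      rw [pow_succ' (π n₁), show π n₁ * π n₁ ^ k * π u * (π n₁ * π n₁ ^ k)⁻¹ =
        π n₁ * (π n₁ ^ k * π u * (π n₁ ^ k)⁻¹) * (π n₁)⁻¹ by group, ih, ← conj_pow, hn₁u, ← pow_mul,
        ← pow_succ']
  have hπf : ∀ k, π (f (k + 1)) = π u ^ ((k + 1) * a ^ k) := by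
    intro k
    induction k with
    | zero => simp [f]
    | succ k ih =>
      show π (f (k + 1) ^ R * (n₁ ^ (k + 1) * u * (n₁ ^ (k + 1))⁻¹)) = _
      rw [map_mul, map_pow, ih, hπiter, ← pow_mul, ← pow_add]
      refine hmod _ _ ?_
      push_cast
      rw [hRa]; ring
  have hm0 : m ≠ 0 := fun h => hm (h ▸ dvd_zero p)
  obtain ⟨M', hM'⟩ : ∃ M', M = M' + 1 :=
    Nat.exists_eq_succ_of_ne_zero (Nat.mul_ne_zero hm0 (Nat.sub_ne_zero_of_lt hp.one_lt))
  have hMp : ¬ p ∣ M := fun h => by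
    rcases hp.dvd_mul.1 h with h | h
    · exact hm h
    · exact Nat.not_dvd_of_pos_of_lt (Nat.sub_pos_of_lt hp.one_lt) (Nat.sub_lt hp.pos one_pos) h
  have hne : ((f M : ↥K) : G) ≠ 1 := by
    intro h
    have h1 : π (f M) = 1 := by
      have h0 : f M = 1 := Subtype.ext h
      rw [h0, map_one]
    rw [hM', hπf, ← orderOf_dvd_iff_pow_eq_one, hord, ← ZMod.natCast_eq_zero_iff, Nat.cast_mul, mul_eq_zero,
      Nat.cast_pow, ZMod.natCast_eq_zero_iff, ← hM'] at h1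
    rcases h1 with h1 | h1
    · exact hMp h1
    · exact ha0 (pow_eq_zero_iff'.1 h1).1
  set w := ((f M : ↥K) : G) with hw
  obtain ⟨j, -, hj⟩ := (Nat.dvd_prime_pow hp).1 (hN ▸ Subgroup.orderOf_dvd_natCard Y (hfY M))
  obtain ⟨j', rfl⟩ : ∃ j', j = j' + 1 := Nat.exists_eq_succ_of_ne_zero fun h => by
    rw [h, pow_zero, orderOf_eq_one_iff] at hj
    exact hne hj
  set c := w ^ p ^ j' with hc
  have hco : orderOf c = p := by
    rw [hc, orderOf_pow_of_dvd (pow_ne_zero _ hp.ne_zero) (hj ▸ pow_dvd_pow p j'.le_succ), hj,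
      pow_succ, Nat.mul_div_cancel_left _ (pow_pos hp.pos _)]
  refine ⟨c, pow_mem (hfY M) _, hco, (n₁ : G), by rw [hn₁, SubgroupClass.coe_pow]; exact pow_mem (mem_zpowers _) _, ?_⟩
  have h5 : (n₁ : G) * w * (n₁ : G)⁻¹ = w ^ R := congrArg Subtype.val hfix
  rw [hc, ← conj_pow, h5, ← pow_mul, mul_comm, pow_mul, ← hc]
  exact pow_eq_pow_iff_modEq.2 (hco.symm ▸ (ZMod.natCast_eq_natCast_iff R a p).1 hRa)

/-- The conclusion. -/
theorem concl_of_data [Finite G] [Fact p.Prime] (hp : p ≠ 2) {Y W : Subgroup G}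
    (hYc : ∀ a ∈ Y, ∀ b ∈ Y, a * b = b * a) (hY : IsPGroup p ↥Y) {d n w v u : G}
    (hd : d ∈ normalizer (Y : Set G) ⊓ normalizer (W : Set G))
    (hn : n ∈ normalizer (Y : Set G) ⊓ normalizer (W : Set G))
    (hw : w ∈ normalizer (Y : Set G) ⊓ normalizer (W : Set G))
    (hv : v ∈ normalizer (Y : Set G) ⊓ normalizer (W : Set G))
    (huK : u ∈ normalizer (Y : Set G) ⊓ normalizer (W : Set G)) (huY : u ∈ Y)
    {s : (ZMod p)ˣ} (hs : ∀ x : (ZMod p)ˣ, x ∈ zpowers s) (hw1 : w ∉ W) (hwp : w ^ p ∈ W) (hvp : v ^ p ∈ W)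
    (hwv : w * v * w⁻¹ * v⁻¹ ∈ W) (hdw : d * w * d⁻¹ * w⁻¹ ∈ W) (hdv : d * v * d⁻¹ * (w * v)⁻¹ ∈ W)
    (hnw : n * w * n⁻¹ * (w ^ (s : ZMod p).val)⁻¹ ∈ W)
    (hnv : n * v * n⁻¹ * (v ^ ((s⁻¹ : (ZMod p)ˣ) : ZMod p).val)⁻¹ ∈ W) (hu1 : u ∉ W) (hup : u ^ p ∈ W)
    (hnu : n * u * n⁻¹ * (u ^ (s : ZMod p).val)⁻¹ ∈ W) : Concl p Y := by
  classical
  set K := normalizer (Y : Set G) ⊓ normalizer (W : Set G) with hK
  haveI : (W.subgroupOf K).Normal := ⟨fun x hx g =>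
    (mem_normalizer_iff.1 (mem_inf.1 g.2).2 _).1 hx⟩
  set π := QuotientGroup.mk' (W.subgroupOf K)
  have hπ : ∀ x : ↥K, π x = 1 ↔ (x : G) ∈ W := fun x => QuotientGroup.eq_one_iff x
  have hπ2 : ∀ x y : ↥K, (x : G) * (y : G)⁻¹ ∈ W → π x = π y := fun x y h => by
    rw [← mul_inv_eq_one, ← map_inv, ← map_mul, hπ]; exact h
  let d' : ↥K := ⟨d, hd⟩
  let n' : ↥K := ⟨n, hn⟩
  let w' : ↥K := ⟨w, hw⟩
  let v' : ↥K := ⟨v, hv⟩
  let u' : ↥K := ⟨u, huK⟩
  have h1 : π (d' * w' * d'⁻¹) = π w' := hπ2 _ _ hdw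
  have h2 : π (d' * v' * d'⁻¹) = π (w' * v') := hπ2 _ _ hdv
  have h3 : π (n' * w' * n'⁻¹) = π (w' ^ (s : ZMod p).val) := hπ2 _ _ hnw
  have h4 : π (n' * v' * n'⁻¹) = π (v' ^ ((s⁻¹ : (ZMod p)ˣ) : ZMod p).val) := hπ2 _ _ hnv
  have h5 : π (n' * u' * n'⁻¹) = π (u' ^ (s : ZMod p).val) := hπ2 _ _ hnu
  have h6 : π (w' * v') = π (v' * w') := hπ2 _ _ (by
    show w * v * (v * w)⁻¹ ∈ W
    rw [show w * v * (v * w)⁻¹ = w * v * w⁻¹ * v⁻¹ by group]; exact hwv)
  simp only [map_mul, map_inv, map_pow] at h1 h2 h3 h4 h5 h6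
  refine ⟨?_, ?_⟩
  · have hK' := FSection.involves_f_of_data hp (w := π w') (v := π v') (d := π d') (n := π n')
      (fun h => hw1 ((hπ w').1 h)) (by rw [← map_pow, hπ]; exact hwp) (by rw [← map_pow, hπ]; exact hvp)
      h6 h1 h2 hs h3 h4
    have hle : K ≤ normalizer (Y : Set G) := inf_le_left
    exact Involves.involves_of_subgroup (Involves.involves_of_surjective
      (subgroupOfEquivOfLe hle).toMonoidHom (subgroupOfEquivOfLe hle).surjective
      (Involves.involves_of_surjective π (QuotientGroup.mk'_surjective _) hK'))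
  · obtain ⟨c, hcY, hco, n₁, hn₁, hn₁c⟩ := exists_eigen hYc hY π n' u' (mem_inf.1 hn).1 huY
      (fun h => hu1 ((hπ u').1 h)) (by rw [← map_pow, hπ]; exact hup) s h5
    refine ⟨zpowers c, zpowers_le.2 hcY, by rw [Nat.card_zpowers, hco], ?_⟩
    set C := zpowers c with hC
    have hn₁Y : n₁ ∈ normalizer (Y : Set G) := zpowers_le.2 (mem_inf.1 hn).1 hn₁
    have hn₁C : n₁ ∈ normalizer (C : Set G) := by
      refine mem_normalizer_fintype fun x hx => ?_
      obtain ⟨k, rfl⟩ := hx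
      show n₁ * c ^ k * n₁⁻¹ ∈ zpowers c
      rw [← conj_zpow, hn₁c]
      exact zpow_mem (pow_mem (mem_zpowers c) _) k
    set K₁ := normalizer (Y : Set G) ⊓ normalizer (C : Set G) with hK₁
    set K₀ := normalizer (Y : Set G) ⊓ centralizer (C : Set G)
    let ψ : ↥K₁ →* MulAut ↥C := C.normalizerMonoidHom.comp (Subgroup.inclusion inf_le_right)
    have hψ : ∀ (g : ↥K₁) (x : ↥C), ((ψ g x : ↥C) : G) = g * x * (g : G)⁻¹ := fun g x => rfl
    have hker : ψ.ker = K₀.subgroupOf K₁ := by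
      ext g
      rw [MonoidHom.mem_ker, mem_subgroupOf, mem_inf, mem_centralizer_iff]
      constructor
      · intro h
        refine ⟨(mem_inf.1 g.2).1, fun x hx => ?_⟩
        have := hψ g ⟨x, hx⟩
        rw [h, MulAut.one_apply] at this
        exact (mul_inv_eq_iff_eq_mul.1 this.symm).symm
      · intro h
        refine MulEquiv.ext fun x => Subtype.ext ?_
        rw [hψ, MulAut.one_apply, ← h.2 x x.2, mul_inv_cancel_right]
    haveI : Finite (MulAut ↥C) := Finite.of_injective _ DFunLike.coe_injective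
    haveI : IsCyclic ↥C := ⟨⟨⟨c, mem_zpowers c⟩, fun ⟨x, k, hk⟩ => ⟨k, Subtype.ext hk⟩⟩⟩
    have hcard : Nat.card (MulAut ↥C) = p - 1 := by
      rw [IsCyclic.card_mulAut, hC, Nat.card_zpowers, hco, Nat.totient_prime Fact.out]
    have hidx : K₀.relIndex K₁ = Nat.card ψ.range := by
      rw [relIndex, ← hker, index_ker]
    rw [hidx]
    refine le_antisymm (hcard ▸ Subgroup.card_le_card_group ψ.range) ?_
    have hgen : orderOf (ψ ⟨n₁, mem_inf.2 ⟨hn₁Y, hn₁C⟩⟩) = orderOf s := by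
      refine orderOf_eq_orderOf_iff.2 fun k => ?_
      have hit : ∀ k : ℕ, n₁ ^ k * c * (n₁ ^ k)⁻¹ = c ^ (s : ZMod p).val ^ k := by
        intro k
        induction k with
        | zero => simp
        | succ k ih =>
          rw [pow_succ' n₁, show n₁ * n₁ ^ k * c * (n₁ * n₁ ^ k)⁻¹ = n₁ * (n₁ ^ k * c * (n₁ ^ k)⁻¹) * n₁⁻¹ by
            group, ih, ← conj_pow, hn₁c, ← pow_mul, ← pow_succ']
      have hiff : c ^ (s : ZMod p).val ^ k = c ↔ s ^ k = 1 := by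
        conv_lhs => rhs; rw [← pow_one c]
        rw [pow_eq_pow_iff_modEq, hco, ← ZMod.natCast_eq_natCast_iff, Nat.cast_pow,
          ZMod.natCast_zmod_val, Nat.cast_one, ← Units.val_pow_eq_pow_val, Units.val_eq_one]
      rw [← hiff, ← hit, ← map_pow]
      constructor
      · intro h
        have := hψ ((⟨n₁, mem_inf.2 ⟨hn₁Y, hn₁C⟩⟩ : ↥K₁) ^ k) ⟨c, mem_zpowers c⟩
        rw [h, MulAut.one_apply, SubgroupClass.coe_pow] at this
        exact this.symm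
      · intro h
        refine MulEquiv.ext fun ⟨x, i, hi⟩ => Subtype.ext ?_
        rw [hψ, MulAut.one_apply, SubgroupClass.coe_pow]
        show n₁ ^ k * x * (n₁ ^ k)⁻¹ = x
        rw [← hi]
        show n₁ ^ k * c ^ i * (n₁ ^ k)⁻¹ = c ^ i
        rw [← conj_zpow, h]
    have hso : orderOf s = p - 1 := by
      rw [orderOf_eq_card_of_forall_mem_zpowers hs, Nat.card_eq_fintype_card, ZMod.card_units]
    rw [← hso, ← hgen, ← Nat.card_zpowers]
    exact Subgroup.card_le_of_le (zpowers_le.2 ⟨_, rfl⟩)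

end Cfsg.Agent.ZJFusion
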