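/-
A quadratic pair acting affinely: the torus.

* `exists_torus` : a diagonal element normalising a `p`-subgroup above `upperE c`;
* `exists_torus_affine` : the module version;
* `exists_torus_data` : the group version.
-/
import Cfsg.Agent.Lib.QdCrit.Stable
import Cfsg.Agent.Lib.PReduced.Tools

set_option autoImplicit false
set_option linter.unusedSectionVars false

namespace Cfsg.Agent.ZJFusion

open Matrix PSL2 Cfsg.Agent Cfsg.Agent.Quadratic
open scoped commutatorElement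

universe u v

variable {p : ℕ} [Fact p.Prime]

theorem mem_of_conj_le {X : Type v} [Group X] [Finite X] {P : Subgroup X} {g : X}
    (h : ∀ x ∈ P, g * x * g⁻¹ ∈ P) : g ∈ Subgroup.normalizer (P : Set X) :=
  Subgroup.mem_normalizer_fintype h

/-- A torus element normalising a `p`-subgroup containing an upper transvection. -/
theorem exists_torus {X : Type v} [Group X] [Finite X] {K : Type u} [Field K] [Finite K] [CharP K p]
    (hp : p ≠ 2) (φ : X →* Matrix.SpecialLinearGroup (Fin 2) K) {a : X} {c : K} (hc : c ≠ 0)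
    (hl : lowerE 1 ∈ φ.range) (hφa : φ a = upperE c) (ha : IsPGroup p ↥(Subgroup.zpowers a)) :
    ∃ (P : Subgroup X) (t : X) (s : (ZMod p)ˣ), IsPGroup p ↥P ∧ a ∈ P ∧
      t ∈ Subgroup.normalizer (P : Set X) ∧ (∀ u : (ZMod p)ˣ, u ∈ Subgroup.zpowers s) ∧
      (φ t).1 *ᵥ ![1, 0] = ((s : ZMod p).val : K) • ![1, 0] ∧
      ∀ r : K, ∃ x : K,
        (φ t).1 *ᵥ ![x, r] = (((s⁻¹ : (ZMod p)ˣ) : ZMod p).val : K) • ![x, r] := by
  classical
  obtain ⟨P, hP⟩ := ha.exists_le_sylow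
  have haP : a ∈ (P : Subgroup X) := hP (Subgroup.mem_zpowers a)
  let e₁ : Fin 2 → K := ![1, 0]
  have hmv : ∀ (g h : X) (x : Fin 2 → K), (φ (g * h)).1 *ᵥ x = (φ g).1 *ᵥ ((φ h).1 *ᵥ x) :=
    fun g h x => by rw [map_mul, Matrix.SpecialLinearGroup.coe_mul, Matrix.mulVec_mulVec]
  have hinv : ∀ (g : X) (x : Fin 2 → K), (φ g⁻¹).1 *ᵥ ((φ g).1 *ᵥ x) = x := fun g x => by
    rw [← hmv, inv_mul_cancel, map_one, Matrix.SpecialLinearGroup.coe_one, Matrix.one_mulVec]
  -- every element of `P` fixes `e₁`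
  have hfix : ∀ x ∈ (P : Subgroup X), (φ x).1 *ᵥ e₁ = e₁ := by
    letI : MulAction ↥(P : Subgroup X) (Fin 2 → K) :=
      { smul := fun g x => (φ g).1 *ᵥ x
        one_smul := fun x => by
          show (φ ((1 : ↥(P : Subgroup X)) : X)).1 *ᵥ x = x
          rw [Subgroup.coe_one, map_one, Matrix.SpecialLinearGroup.coe_one, Matrix.one_mulVec]
        mul_smul := fun g h x => hmv g h x }
    have hdvd : p ∣ Nat.card (Fin 2 → K) := by
      have h1 : (p : ℕ) ∣ Nat.card K := by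
        haveI := Fintype.ofFinite K
        rw [Nat.card_eq_fintype_card, ← CharP.cast_eq_zero_iff K p]
        exact FiniteField.cast_card_eq_zero K
      rw [Nat.card_fun, Nat.card_fin]
      exact dvd_pow h1 two_ne_zero
    obtain ⟨b, hb, hb0⟩ := P.2.exists_fixed_point_of_prime_dvd_card_of_fixed_point (Fin 2 → K) hdvd
      (a := 0) (fun g => Matrix.mulVec_zero _)
    have hba : (φ a).1 *ᵥ b = b := hb ⟨a, haP⟩
    rw [hφa, upperE_val] at hba
    have h1 : b 1 = 0 := by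
      have := congrFun hba 0
      simp [Matrix.mulVec, dotProduct, Fin.sum_univ_two] at this
      exact this.resolve_left hc
    have hbe : b = b 0 • e₁ := by
      ext i; fin_cases i <;> simp [e₁, h1]
    have h0 : b 0 ≠ 0 := fun h => hb0 (by rw [hbe, h, zero_smul])
    intro x hx
    have h2 : (φ x).1 *ᵥ b = b := hb ⟨x, hx⟩
    rw [hbe, Matrix.mulVec_smul] at h2
    exact smul_right_injective _ h0 h2
  -- the standard copy of `SL₂(p)`
  obtain ⟨U, L, w, v, hU, hL, hw0, hUw, hUv, hLw, hLv⟩ :=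
    QdCrit.exists_standard_pair hp hc φ.range ⟨a, hφa⟩ hl
  obtain ⟨σ, hσ⟩ := IsCyclic.exists_generator (α := (ZMod p)ˣ)
  set S : K := ((σ : ZMod p).val : K) with hS
  set S' : K := (((σ⁻¹ : (ZMod p)ˣ) : ZMod p).val : K) with hS'
  have hSS : S * S' = 1 := by
    rw [hS, hS', ← Nat.cast_mul]
    have h1 : (((σ : ZMod p).val * ((σ⁻¹ : (ZMod p)ˣ) : ZMod p).val : ℕ) : ZMod p) = ((1 : ℕ) : ZMod p) := by
      rw [Nat.cast_mul, ZMod.natCast_zmod_val, ZMod.natCast_zmod_val, Units.mul_inv, Nat.cast_one]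
    rw [(CharP.natCast_eq_natCast K p).2 ((ZMod.natCast_eq_natCast_iff _ _ _).1 h1), Nat.cast_one]
  have hv0 : ∀ l : K, v ≠ l • w := by
    intro l h
    rw [h, Matrix.mulVec_smul, hUw, eq_comm, add_eq_right] at hUv
    exact hw0 hUv
  have hspan : ∀ x : Fin 2 → K, ∃ i j : K, x = i • w + j • v := by
    intro x
    have hli : LinearIndependent K ![w, v] :=
      (LinearIndependent.pair_iff' hw0).2 fun l => (hv0 l).symm
    have htop := hli.span_eq_top_of_card_eq_finrank (by simp)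
    have hx : x ∈ Submodule.span K (Set.range ![w, v]) := htop ▸ Submodule.mem_top
    rw [Matrix.range_cons, Matrix.range_cons, Matrix.range_empty, Set.union_empty,
      Set.singleton_union, Submodule.mem_span_pair] at hx
    obtain ⟨i, j, hij⟩ := hx
    exact ⟨i, j, hij.symm⟩
  -- powers of the two transvections
  have hUn : ∀ n : ℕ, (U ^ n).1 *ᵥ w = w ∧ (U ^ n).1 *ᵥ v = (n : K) • w + v := by
    intro n
    induction n with
    | zero => simp
    | succ n ih =>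
      constructor
      · rw [pow_succ, Matrix.SpecialLinearGroup.coe_mul, ← Matrix.mulVec_mulVec, hUw, ih.1]
      · rw [pow_succ, Matrix.SpecialLinearGroup.coe_mul, ← Matrix.mulVec_mulVec, hUv, Matrix.mulVec_add,
          ih.1, ih.2, Nat.cast_succ, add_smul, one_smul]
        abel
  have hLn : ∀ n : ℕ, (L ^ n).1 *ᵥ w = w + (n : K) • v ∧ (L ^ n).1 *ᵥ v = v := by
    intro n
    induction n with
    | zero => simp
    | succ n ih =>
      constructor
      · rw [pow_succ, Matrix.SpecialLinearGroup.coe_mul, ← Matrix.mulVec_mulVec, hLw, Matrix.mulVec_add,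
          ih.1, ih.2, Nat.cast_succ, add_smul, one_smul]
        abel
      · rw [pow_succ, Matrix.SpecialLinearGroup.coe_mul, ← Matrix.mulVec_mulVec, hLv, ih.2]
  have hUp : U ^ p = 1 := by
    refine Matrix.SpecialLinearGroup.ext _ _ fun i j => ?_
    have h1 : ∀ x, (U ^ p).1 *ᵥ x = x := fun x => by
      obtain ⟨i', j', rfl⟩ := hspan x
      rw [Matrix.mulVec_add, Matrix.mulVec_smul, Matrix.mulVec_smul, (hUn p).1, (hUn p).2, CharP.cast_eq_zero K p,
        zero_smul, zero_add]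
    have h2 := congrFun (h1 (Pi.single j 1)) i
    rw [Matrix.mulVec_single_one, Matrix.col_apply] at h2
    rw [h2, Matrix.SpecialLinearGroup.coe_one, Matrix.one_apply, Pi.single_apply]
  -- the diagonal element
  set n₁ := (σ : ZMod p).val with hn₁
  set n₂ := (-((σ⁻¹ : (ZMod p)ˣ) : ZMod p)).val with hn₂
  have hn₂' : (n₂ : K) = -S' := by
    rw [hS', eq_neg_iff_add_eq_zero, ← Nat.cast_add, CharP.cast_eq_zero_iff K p,
      ← ZMod.natCast_eq_zero_iff, Nat.cast_add, hn₂, ZMod.natCast_zmod_val, ZMod.natCast_zmod_val,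
      neg_add_cancel]
  set W₀ := U * L⁻¹ * U with hW₀
  have hLi : ∀ x, (L⁻¹).1 *ᵥ ((L).1 *ᵥ x) = x := fun x => by
    rw [Matrix.mulVec_mulVec, ← Matrix.SpecialLinearGroup.coe_mul, inv_mul_cancel]; simp
  have hW0w : W₀.1 *ᵥ w = -v := by
    have h1 : (L⁻¹).1 *ᵥ w = w - v := by
      have := hLi (w - v)
      rwa [Matrix.mulVec_sub, hLw, hLv, add_sub_cancel_right] at this
    rw [hW₀, Matrix.SpecialLinearGroup.coe_mul, Matrix.SpecialLinearGroup.coe_mul, ← Matrix.mulVec_mulVec,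
      hUw, ← Matrix.mulVec_mulVec, h1, Matrix.mulVec_sub, hUw, hUv]
    abel
  have hW0v : W₀.1 *ᵥ v = w := by
    have h1 : (L⁻¹).1 *ᵥ (w + v) = w := by
      have := hLi w
      rwa [hLw] at this
    rw [hW₀, Matrix.SpecialLinearGroup.coe_mul, Matrix.SpecialLinearGroup.coe_mul, ← Matrix.mulVec_mulVec,
      hUv, ← Matrix.mulVec_mulVec, h1, hUw]
  set Ts := U ^ n₁ * L ^ n₂ * U ^ n₁ with hTs
  have hTsw : Ts.1 *ᵥ w = -(S' • v) := by
    rw [hTs, Matrix.SpecialLinearGroup.coe_mul, Matrix.SpecialLinearGroup.coe_mul, ← Matrix.mulVec_mulVec,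
      (hUn _).1, ← Matrix.mulVec_mulVec, (hLn _).1, Matrix.mulVec_add, Matrix.mulVec_smul, (hUn _).1,
      (hUn _).2, hn₂', smul_add, smul_smul, neg_mul, mul_comm, ← hS, hSS, neg_smul, one_smul, neg_smul]
    abel
  have hTsv : Ts.1 *ᵥ v = S • w := by
    rw [hTs, Matrix.SpecialLinearGroup.coe_mul, Matrix.SpecialLinearGroup.coe_mul, ← Matrix.mulVec_mulVec,
      (hUn _).2, ← Matrix.mulVec_mulVec, Matrix.mulVec_add, Matrix.mulVec_smul, (hLn _).1, (hLn _).2,
      hn₂', ← hS, smul_add, smul_smul, mul_neg, hSS, neg_smul, one_smul, add_assoc, neg_add_cancel,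
      add_zero, Matrix.mulVec_smul, (hUn _).1]
  set T := Ts * W₀⁻¹ with hT
  have hWi : ∀ x, (W₀⁻¹).1 *ᵥ (W₀.1 *ᵥ x) = x := fun x => by
    rw [Matrix.mulVec_mulVec, ← Matrix.SpecialLinearGroup.coe_mul, inv_mul_cancel]; simp
  have hTw : T.1 *ᵥ w = S • w := by
    have h1 : (W₀⁻¹).1 *ᵥ w = v := by
      have := hWi v
      rwa [hW0v] at this
    rw [hT, Matrix.SpecialLinearGroup.coe_mul, ← Matrix.mulVec_mulVec, h1, hTsv]
  have hTr : T ∈ φ.range := by
    refine mul_mem (mul_mem (mul_mem (pow_mem hU _) (pow_mem hL _)) (pow_mem hU _)) (inv_mem ?_)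
    exact mul_mem (mul_mem hU (inv_mem hL)) hU
  obtain ⟨t₀, ht₀⟩ := hTr
  -- move the fixed line of `U` to `e₁`
  obtain ⟨u₀, hu₀⟩ := hU
  obtain ⟨m, hm, k, hk⟩ := Involves.exists_primary_pow (q := p) u₀
  have hup : IsPGroup p ↥(Subgroup.zpowers (u₀ ^ m)) := IsPGroup.of_card (by rw [Nat.card_zpowers, hk])
  obtain ⟨P', hP'⟩ := hup.exists_le_sylow
  obtain ⟨g, hg⟩ := MulAction.exists_smul_eq X P P'
  have hgP : g⁻¹ * u₀ ^ m * g ∈ (P : Subgroup X) := by
    have h1 : u₀ ^ m ∈ (P' : Subgroup X) := hP' (Subgroup.mem_zpowers _)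
    rw [← hg] at h1
    exact WeaklyClosed.mem_cj.1 h1
  set g₁ := (φ g).1 *ᵥ e₁ with hg₁
  have hg₁0 : g₁ ≠ 0 := by
    intro h
    have h1 : e₁ = 0 := by rw [← hinv g e₁, ← hg₁, h, Matrix.mulVec_zero]
    simpa [e₁] using congrFun h1 0
  have hUg : (U ^ m).1 *ᵥ g₁ = g₁ := by
    have h1 := hfix _ hgP
    rw [hmv, hmv] at h1
    have h2 := congrArg ((φ g).1 *ᵥ ·) h1
    simp only [← hmv, mul_inv_cancel_left] at h2
    rw [hmv, map_pow, hu₀] at h2
    exact h2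
  obtain ⟨i, j, hij⟩ := hspan g₁
  have hj : j = 0 := by
    rw [hij, Matrix.mulVec_add, Matrix.mulVec_smul, Matrix.mulVec_smul, (hUn m).1, (hUn m).2, smul_add,
      smul_smul, ← add_assoc, add_left_inj, add_eq_left, smul_eq_zero, mul_eq_zero] at hUg
    refine ((hUg.resolve_right hw0).resolve_right fun h => hm ?_)
    rwa [CharP.cast_eq_zero_iff K p] at h
  rw [hj, zero_smul, add_zero] at hij
  set t₁ := g⁻¹ * t₀ * g with ht₁
  have ht₁e : (φ t₁).1 *ᵥ e₁ = S • e₁ := by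
    rw [ht₁, hmv, ← hg₁, hmv, hij, ht₀, Matrix.mulVec_smul, hTw, smul_comm, ← hij, Matrix.mulVec_smul,
      hg₁, hinv]
  -- Frattini in the stabiliser of `e₁`
  let N₀ : Subgroup X :=
    { carrier := {x | (φ x).1 *ᵥ e₁ = e₁}
      one_mem' := by
        show (φ 1).1 *ᵥ e₁ = e₁
        rw [map_one, Matrix.SpecialLinearGroup.coe_one, Matrix.one_mulVec]
      mul_mem' := fun {x y} hx hy => by
        show (φ (x * y)).1 *ᵥ e₁ = e₁
        rw [hmv, (hy : (φ y).1 *ᵥ e₁ = e₁), (hx : (φ x).1 *ᵥ e₁ = e₁)]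
      inv_mem' := fun {x} hx => by
        show (φ x⁻¹).1 *ᵥ e₁ = e₁
        conv_lhs => rw [← (hx : (φ x).1 *ᵥ e₁ = e₁), hinv] }
  have hS0 : S ≠ 0 := left_ne_zero_of_mul_eq_one hSS
  have ht₁N : ∀ x ∈ N₀, t₁ * x * t₁⁻¹ ∈ N₀ := by
    intro x hx
    show (φ (t₁ * x * t₁⁻¹)).1 *ᵥ e₁ = e₁
    have h1 : (φ t₁⁻¹).1 *ᵥ e₁ = S⁻¹ • e₁ := by
      have h2 := congrArg ((φ t₁⁻¹).1 *ᵥ ·) ht₁e
      simp only [hinv, Matrix.mulVec_smul] at h2
      conv_rhs => rw [h2, smul_smul, inv_mul_cancel₀ hS0, one_smul]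
    rw [hmv, h1, hmv, Matrix.mulVec_smul, (hx : (φ x).1 *ᵥ e₁ = e₁), Matrix.mulVec_smul, ht₁e, smul_smul,
      inv_mul_cancel₀ hS0, one_smul]
  have hPN : (P : Subgroup X) ≤ N₀ := hfix
  obtain ⟨P₂, hP₂⟩ : ∃ P₂ : Sylow p X, (P₂ : Subgroup X) = WeaklyClosed.cj t₁ (P : Subgroup X) :=
    ⟨t₁ • P, rfl⟩
  have hP₂N : (P₂ : Subgroup X) ≤ N₀ := by
    rw [hP₂]; rintro _ ⟨x, hx, rfl⟩; exact ht₁N x (hPN hx)
  obtain ⟨n, hn⟩ := MulAction.exists_smul_eq ↥N₀ (P₂.subtype hP₂N) (P.subtype hPN)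
  set t := (n : X) * t₁ with ht
  have htP : t ∈ Subgroup.normalizer ((P : Subgroup X) : Set X) := by
    refine mem_of_conj_le fun x hx => ?_
    have h1 : (⟨t₁ * x * t₁⁻¹, ht₁N x (hPN hx)⟩ : ↥N₀) ∈ (P₂.subtype hP₂N : Subgroup ↥N₀) := by
      rw [Sylow.coe_subtype, Subgroup.mem_subgroupOf, hP₂]
      exact WeaklyClosed.conj_mem_cj hx
    have h2 : (n * ⟨t₁ * x * t₁⁻¹, ht₁N x (hPN hx)⟩ * n⁻¹ : ↥N₀) ∈
        ((n • P₂.subtype hP₂N : Sylow p ↥N₀) : Subgroup ↥N₀) := ⟨_, h1, rfl⟩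
    rw [hn, Sylow.coe_subtype, Subgroup.mem_subgroupOf] at h2
    rw [show t * x * t⁻¹ = (n : X) * (t₁ * x * t₁⁻¹) * (n : X)⁻¹ by rw [ht]; group]
    exact h2
  have hte : (φ t).1 *ᵥ e₁ = S • e₁ := by
    rw [ht, hmv, ht₁e, Matrix.mulVec_smul, (n.2 : (φ (n : X)).1 *ᵥ e₁ = e₁)]
  -- the second eigenvector
  set M := (φ t).1 with hM
  have hM00 : M 0 0 = S := by
    have := congrFun hte 0
    simpa [e₁, Matrix.mulVec, dotProduct, Fin.sum_univ_two] using this
  have hM10 : M 1 0 = 0 := by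
    have := congrFun hte 1
    simpa [e₁, Matrix.mulVec, dotProduct, Fin.sum_univ_two] using this
  have hM11 : M 1 1 = S' := by
    have h1 := (φ t).2
    rw [← hM, Matrix.det_fin_two, hM00, hM10, mul_zero, sub_zero] at h1
    exact mul_left_cancel₀ hS0 (h1.trans hSS.symm)
  have hMx : ∀ x r : K, M *ᵥ ![x, r] = ![S * x + M 0 1 * r, S' * r] := fun x r => by
    ext i; fin_cases i <;> simp [Matrix.mulVec, dotProduct, Fin.sum_univ_two, hM00, hM10, hM11]
  by_cases hss : S = S'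
  · refine ⟨P, t ^ p, σ, P.2, haP, pow_mem htP p, hσ, ?_, fun r => ⟨0, ?_⟩⟩
    all_goals
      have hpw : ∀ n : ℕ, (φ (t ^ n)).1 *ᵥ ![1, 0] = S ^ n • ![1, 0] ∧
          ∀ r : K, (φ (t ^ n)).1 *ᵥ ![0, r] = ![(n : K) * S ^ (n - 1) * (M 0 1 * r), S ^ n * r] := by
        intro n
        induction n with
        | zero => exact ⟨by simp, fun r => by simp⟩
        | succ n ih =>
          constructor
          · rw [pow_succ', hmv, ih.1, Matrix.mulVec_smul, ← hM, hte, smul_smul, pow_succ]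
          · intro r
            rw [pow_succ', hmv, ih.2, ← hM, hMx, ← hss, pow_succ']
            ext i; fin_cases i
            · simp only [Matrix.cons_val_zero, Fin.zero_eta, Nat.cast_succ, Nat.add_sub_cancel]
              rcases n with _ | n
              · simp
              · simp only [Nat.add_sub_cancel, pow_succ]; push_cast; ring
            · simp; ring
      have hSp : S ^ p = S := by
        rw [hS, ← Nat.cast_pow]
        refine (CharP.natCast_eq_natCast K p).2 ((ZMod.natCast_eq_natCast_iff _ _ _).1 ?_)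
        rw [Nat.cast_pow, ZMod.pow_card]
    · rw [(hpw p).1, hSp]
    · rw [(hpw p).2, hSp, CharP.cast_eq_zero, zero_mul, zero_mul, ← hS', ← hss]
      ext i; fin_cases i <;> simp
  · refine ⟨P, t, σ, P.2, haP, htP, hσ, hte, fun r => ⟨M 0 1 * r / (S' - S), ?_⟩⟩
    rw [← hM, hMx, ← hS']
    have h0 : S' - S ≠ 0 := sub_ne_zero.2 (Ne.symm hss)
    ext i; fin_cases i
    · show S * (M 0 1 * r / (S' - S)) + M 0 1 * r = S' * (M 0 1 * r / (S' - S))
      linear_combination -(div_mul_cancel₀ (M 0 1 * r) h0)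
    · rfl

/-- The torus in a module extended by a fixed point of one member of a quadratic pair. -/
theorem exists_torus_affine {V : Type u} [AddCommGroup V] [Module (ZMod p) V] [Finite V]
    {X : Type v} [Group X] [Finite X] (hp : p ≠ 2) (ρ : X →* Module.End (ZMod p) V) {a b : X}
    (hgen : Subgroup.closure ({a, b} : Set X) = ⊤) (ha : IsPGroup p ↥(Subgroup.zpowers a))
    (hb : IsPGroup p ↥(Subgroup.zpowers b)) (hqa : IsQuad ρ a) (hqb : IsQuad ρ b) {z : V} (haz : ρ a z = z)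
    (hk : ∃ k : X, (orderOf k).Coprime p ∧ ρ k z ≠ z)
    (hmax : ∀ U : Submodule (ZMod p) V, (∀ g, ∀ u ∈ U, ρ g u ∈ U) → U ≠ ⊥ →
      ∀ k : X, (orderOf k).Coprime p → ρ k z - z ∈ U)
    (hfix : ∀ x : X, IsPGroup p ↥(Subgroup.closure ({a, x * b * x⁻¹} : Set X)) →
      ρ (x * b * x⁻¹) z = z) :
    ∃ (P : Subgroup X) (t : X) (s : (ZMod p)ˣ) (w v : V), IsPGroup p ↥P ∧ a ∈ P ∧
      t ∈ Subgroup.normalizer (P : Set X) ∧ (∀ u : (ZMod p)ˣ, u ∈ Subgroup.zpowers s) ∧ w ≠ 0 ∧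
      ρ a w = w ∧ ρ a v = w + v ∧ ρ t w = (s : ZMod p).val • w ∧
      ρ t v = ((s⁻¹ : (ZMod p)ˣ) : ZMod p).val • v ∧ ρ t z - z ≠ 0 ∧
      ρ t (ρ t z - z) = (s : ZMod p).val • (ρ t z - z) := by
  classical
  obtain ⟨k₀, hk₀, hk₀z⟩ := hk
  obtain ⟨M₀, ⟨hMi, hM0⟩, hMmin⟩ := (wellFounded_lt (α := Submodule (ZMod p) V)).has_min
    {U | (∀ g, ∀ u ∈ U, ρ g u ∈ U) ∧ U ≠ ⊥} ⟨⊤, fun _ _ _ => Submodule.mem_top, fun h => hk₀z <| by
      have h1 : ρ k₀ z - z ∈ (⊥ : Submodule (ZMod p) V) := h ▸ Submodule.mem_top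
      exact sub_eq_zero.1 ((Submodule.mem_bot (ZMod p)).1 h1)⟩
  have hkM := hmax M₀ hMi hM0
  let N₁ : Subgroup X :=
    { carrier := {g | ρ g z - z ∈ M₀}
      one_mem' := by simp
      mul_mem' := fun {g h} hg hh => by
        show ρ (g * h) z - z ∈ M₀
        rw [apply_mul]
        have := M₀.add_mem (hMi g _ hh) (hg : ρ g z - z ∈ M₀)
        simpa using this
      inv_mem' := fun {g} hg => by
        show ρ g⁻¹ z - z ∈ M₀
        have := M₀.neg_mem (hMi g⁻¹ _ (hg : ρ g z - z ∈ M₀))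
        simpa [apply_inv_self] using this }
  have hN₁ : Cfsg.pResidual p X ≤ N₁ := (Subgroup.closure_le _).2 fun k hk => hkM k hk
  -- a conjugate of `b` inside a Sylow subgroup containing `a`
  obtain ⟨P₁, hP₁⟩ := ha.exists_le_sylow
  obtain ⟨P₂, hP₂⟩ := hb.exists_le_sylow
  obtain ⟨g, hg⟩ := MulAction.exists_smul_eq X P₂ P₁
  have hgb : g * b * g⁻¹ ∈ (P₁ : Subgroup X) := by
    rw [← hg]; exact ⟨b, hP₂ (Subgroup.mem_zpowers b), rfl⟩
  obtain ⟨r, hr, q, hq, hrq⟩ := PReduced.exists_eq_mul_of_pResidual P₁ g⁻¹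
  have hrb : r⁻¹ * b * r⁻¹⁻¹ ∈ (P₁ : Subgroup X) := by
    have h1 : r⁻¹ * b * r⁻¹⁻¹ = q * (g * b * g⁻¹) * q⁻¹ := by
      rw [show g = (r * q)⁻¹ by rw [← hrq, inv_inv]]; group
    rw [h1]
    exact mul_mem (mul_mem hq hgb) (inv_mem hq)
  have hbz := hfix r⁻¹ (P₁.2.to_le ((Subgroup.closure_le _).2 (by
    rintro x (rfl | rfl)
    · exact hP₁ (Subgroup.mem_zpowers _)
    · exact hrb)))
  have hbz' : ρ b (ρ r z) = ρ r z := by
    have h1 := congrArg (ρ r) hbz
    rwa [← apply_mul, show r * (r⁻¹ * b * r⁻¹⁻¹) = b * r by group, apply_mul] at h1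
  have hμM : ρ r z - z ∈ M₀ := hN₁ hr
  -- the module `M₀`
  let ρ₀ : X →* Module.End (ZMod p) M₀ :=
    { toFun := fun g => (ρ g).restrict (fun u hu => hMi g u hu)
      map_one' := LinearMap.ext fun u => Subtype.ext (apply_one ρ (u : V))
      map_mul' := fun g h => LinearMap.ext fun u => Subtype.ext (apply_mul ρ g h (u : V)) }
  have hρ₀ : ∀ g (u : M₀), ((ρ₀ g u : M₀) : V) = ρ g u := fun _ _ => rfl
  have hne : ∃ g, ρ₀ g ≠ 1 := by
    by_contra hall
    push Not at hall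
    set δ := ρ k₀ z - z with hδ
    have hδ' : ρ k₀ δ = δ := by
      have h1 := congrArg Subtype.val (LinearMap.congr_fun (hall k₀) ⟨δ, hkM k₀ hk₀⟩)
      exact h1
    have hpow : ∀ n : ℕ, ρ (k₀ ^ n) z = z + n • δ := by
      intro n
      induction n with
      | zero => simp
      | succ n ih =>
        rw [pow_succ', apply_mul, ih, map_add, map_nsmul, hδ', succ_nsmul]
        simp only [hδ]; abel
    have h1 := hpow (orderOf k₀)
    rw [pow_orderOf_eq_one, apply_one, left_eq_add, ← Nat.cast_smul_eq_nsmul (ZMod p),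
      smul_eq_zero, ZMod.natCast_eq_zero_iff] at h1
    refine hk₀z (sub_eq_zero.1 (h1.resolve_left fun h => ?_))
    exact (Fact.out : p.Prime).ne_one (Nat.dvd_one.1 (hk₀.gcd_eq_one ▸ Nat.dvd_gcd h dvd_rfl))
  have hirr : ∀ U : Submodule (ZMod p) M₀, (∀ g, ∀ u ∈ U, ρ₀ g u ∈ U) → U = ⊥ ∨ U = ⊤ := by
    intro U hU
    by_cases h : U.map M₀.subtype = ⊥
    · left
      exact Submodule.map_injective_of_injective M₀.injective_subtype (by rw [h, Submodule.map_bot])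
    · right
      have hle : U.map M₀.subtype ≤ M₀ := Submodule.map_subtype_le M₀ U
      have hi : ∀ g, ∀ u ∈ U.map M₀.subtype, ρ g u ∈ U.map M₀.subtype := by
        rintro g _ ⟨u, hu, rfl⟩; exact ⟨_, hU g u hu, rfl⟩
      have he : U.map M₀.subtype = M₀ :=
        eq_of_le_of_not_lt hle (hMmin _ ⟨hi, h⟩)
      exact Submodule.map_injective_of_injective M₀.injective_subtype
        (by rw [he, Submodule.map_subtype_top])
  obtain ⟨K, i1, i2, i3, c, hc, φ, hφa, hφb, ι, hι, hint⟩ := QdCrit.exists_intertwining ρ₀ hgen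
    (fun u => Subtype.ext (hqa (u : V))) (fun u => Subtype.ext (hqb (u : V))) hne hirr
  haveI := i2
  haveI := i3
  obtain ⟨P, t, s, hP, haP, ht, hs, hte, htr⟩ := exists_torus hp φ hc ⟨b, hφb⟩ hφa ha
  have hι' : Function.Surjective ι := by
    rcases hirr (AddSubgroup.toZModSubmodule p ι.range) (by
      rintro g _ ⟨x, rfl⟩; exact ⟨_, hint g x⟩) with h | h
    · exfalso
      have h1 : ι ![1, 0] ∈ (AddSubgroup.toZModSubmodule p ι.range) := ⟨_, rfl⟩
      rw [h, Submodule.mem_bot, ← map_zero ι] at h1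
      simpa using congrFun (hι h1) 0
    · intro x
      exact (h.symm ▸ Submodule.mem_top : x ∈ AddSubgroup.toZModSubmodule p ι.range)
  let j : (Fin 2 → K) →+ V := M₀.subtype.toAddMonoidHom.comp ι
  have hj : ∀ g x, ρ g (j x) = j ((φ g).1 *ᵥ x) := fun g x => by
    show ρ g (ι x : V) = (ι ((φ g).1 *ᵥ x) : V)
    rw [hint]; rfl
  have hjinj : Function.Injective j := M₀.injective_subtype.comp hι
  have hjn : ∀ (n : ℕ) (x : Fin 2 → K), j ((n : K) • x) = n • j x := fun n x => by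
    rw [Nat.cast_smul_eq_nsmul, map_nsmul]
  obtain ⟨ab, hab⟩ := hι' ⟨ρ r z - z, hμM⟩
  have hab' : j ab = ρ r z - z := congrArg Subtype.val hab
  set z' := z + j ![ab 0, 0] with hz'
  have haz' : ρ a z' = z' := by
    rw [hz', map_add, haz, hj, hφa, upperE_val]
    congr 2; ext i; fin_cases i <;> simp [Matrix.mulVec, dotProduct, Fin.sum_univ_two]
  have hz'' : z' = ρ r z - j ![0, ab 1] := by
    have h1 : ab = ![ab 0, 0] + ![0, ab 1] := by ext i; fin_cases i <;> simp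
    rw [eq_sub_iff_add_eq, hz', add_assoc, ← map_add, ← h1, hab', add_sub_cancel]
  have hbz'' : ρ b z' = z' := by
    rw [hz'', map_sub, hbz', hj, hφb, lowerE_val]
    congr 2; ext i; fin_cases i <;> simp [Matrix.mulVec, dotProduct, Fin.sum_univ_two]
  have hallz : ∀ g, ρ g z' = z' := fun g =>
    apply_mem_of_closure hgen ρ {z'} (by
      rintro s' (rfl | rfl) w hw <;> rw [Set.mem_singleton_iff] at hw ⊢ <;> subst hw
      · exact haz'
      · exact hbz'') g z' rfl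
  have haff : ∀ g, ρ g z - z = j ![ab 0, 0] - j ((φ g).1 *ᵥ ![ab 0, 0]) := fun g => by
    have h1 := hallz g
    rw [hz', map_add, hj] at h1
    linear_combination (norm := abel) h1
  have hab0 : ab 0 ≠ 0 := by
    intro h0
    refine hk₀z (sub_eq_zero.1 ?_)
    rw [haff, h0, show (![(0 : K), 0] : Fin 2 → K) = 0 by ext i; fin_cases i <;> simp, Matrix.mulVec_zero,
      map_zero, sub_zero]
  set S : K := ((s : ZMod p).val : K) with hS
  obtain ⟨x, hx⟩ := htr (ab 0)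
  have hlin : (φ t).1 *ᵥ ![ab 0, 0] = S • ![ab 0, 0] := by
    have h1 : (![ab 0, 0] : Fin 2 → K) = ab 0 • ![1, 0] := by ext i; fin_cases i <;> simp
    rw [h1, Matrix.mulVec_smul, hte, smul_comm]
  have hS1 : S ≠ 1 := by
    intro h
    rw [hS, ← Nat.cast_one (R := K)] at h
    have h2 := (ZMod.natCast_eq_natCast_iff _ _ p).2 ((CharP.natCast_eq_natCast K p).1 h)
    rw [ZMod.natCast_zmod_val, Nat.cast_one] at h2
    obtain ⟨i, hi⟩ := hs (-1)
    have h3 : (-1 : (ZMod p)ˣ) = 1 := by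
      rw [← hi, show s = 1 from Units.ext h2]; exact one_zpow i
    have h4 : (-1 : ZMod p) = 1 := by simpa using congrArg Units.val h3
    haveI : Fact (2 < p) := ⟨lt_of_le_of_ne (Fact.out : p.Prime).two_le (Ne.symm hp)⟩
    exact ZMod.neg_one_ne_one h4
  refine ⟨P, t, s, j ![c * ab 0, 0], j ![x, ab 0], hP, haP, ht, hs, fun h => ?_, ?_, ?_, ?_, ?_, ?_, ?_⟩
  · rw [← map_zero j] at h
    exact mul_ne_zero hc hab0 (by simpa using congrFun (hjinj h) 0)
  · rw [hj, hφa, upperE_val]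
    congr 1; ext i; fin_cases i <;> simp [Matrix.mulVec, dotProduct, Fin.sum_univ_two]
  · rw [hj, hφa, upperE_val, ← map_add]
    congr 1; ext i; fin_cases i <;> simp [Matrix.mulVec, dotProduct, Fin.sum_univ_two, add_comm]
  · rw [hj, ← hjn]
    congr 1
    have h1 : (![c * ab 0, 0] : Fin 2 → K) = c • ![ab 0, 0] := by ext i; fin_cases i <;> simp
    rw [h1, Matrix.mulVec_smul, hlin, smul_comm]
  · rw [hj, hx, hjn]
  · rw [haff, hlin, sub_ne_zero]
    intro h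
    have h1 : ab 0 = S * ab 0 := by simpa using congrFun (hjinj h) 0
    exact hS1 ((mul_eq_right₀ hab0).1 h1.symm)
  · rw [haff, map_sub, hj, hj, hlin, Matrix.mulVec_smul, hlin, hS, hjn, hjn, hjn, nsmul_sub]

/-- The torus data in a group. -/
theorem exists_torus_data {Q : Type u} [Group Q] [Finite Q] (hp : p ≠ 2) {V : Subgroup Q}
    (hV : Cfsg.IsElementaryAbelian p V) {a b z : Q}
    (haV : a ∈ Subgroup.normalizer (V : Set Q)) (hbV : b ∈ Subgroup.normalizer (V : Set Q))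
    (ha : IsPGroup p ↥(Subgroup.zpowers a)) (hb : IsPGroup p ↥(Subgroup.zpowers b))
    (hqa : ∀ v ∈ V, Commute a (a * v * a⁻¹ * v⁻¹)) (hqb : ∀ v ∈ V, Commute b (b * v * b⁻¹ * v⁻¹))
    (hz : z ∈ V) (haz : a * z * a⁻¹ = z)
    (hk : ∃ k ∈ Subgroup.closure ({a, b} : Set Q), (orderOf k).Coprime p ∧ k * z * k⁻¹ ≠ z)
    (hfix : ∀ x ∈ Subgroup.closure ({a, b} : Set Q),
      IsPGroup p ↥(Subgroup.closure ({a, x * b * x⁻¹} : Set Q)) →
        (x * b * x⁻¹) * z * (x * b * x⁻¹)⁻¹ = z) :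
    ∃ (W P : Subgroup Q) (t w v : Q) (s : (ZMod p)ˣ), W ≤ V ∧
      Subgroup.closure ({a, b} : Set Q) ≤ Subgroup.normalizer (W : Set Q) ∧
      P ≤ Subgroup.closure ({a, b} : Set Q) ∧ IsPGroup p ↥P ∧ a ∈ P ∧
      t ∈ Subgroup.closure ({a, b} : Set Q) ∧ t ∈ Subgroup.normalizer (P : Set Q) ∧
      (∀ u : (ZMod p)ˣ, u ∈ Subgroup.zpowers s) ∧ w ∈ V ∧ v ∈ V ∧ w ∉ W ∧
      (a * w * a⁻¹) * w⁻¹ ∈ W ∧ (a * v * a⁻¹) * (w * v)⁻¹ ∈ W ∧
      (t * w * t⁻¹) * (w ^ (s : ZMod p).val)⁻¹ ∈ W ∧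
      (t * v * t⁻¹) * (v ^ ((s⁻¹ : (ZMod p)ˣ) : ZMod p).val)⁻¹ ∈ W ∧
      t * z * t⁻¹ * z⁻¹ ∉ W ∧
      (t * (t * z * t⁻¹ * z⁻¹) * t⁻¹) * ((t * z * t⁻¹ * z⁻¹) ^ (s : ZMod p).val)⁻¹ ∈ W := by
  classical
  set X := Subgroup.closure ({a, b} : Set Q) with hX
  have hXV : X ≤ Subgroup.normalizer (V : Set Q) :=
    (Subgroup.closure_le _).2 (by rintro x (rfl | rfl) <;> assumption)
  obtain ⟨k₀, hk₀X, hk₀, hk₀z⟩ := hk
  obtain ⟨W, ⟨hWV, hXW, k₁, hk₁X, hk₁, hk₁z⟩, hWmax⟩ := (wellFounded_gt (α := Subgroup Q)).has_min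
    {W | W ≤ V ∧ X ≤ Subgroup.normalizer (W : Set Q) ∧
      ∃ k ∈ X, (orderOf k).Coprime p ∧ k * z * k⁻¹ * z⁻¹ ∉ W}
    ⟨⊥, bot_le, fun x _ => mem_of_conj_le fun y hy => by
        rw [Subgroup.mem_bot] at hy ⊢; rw [hy, mul_one, mul_inv_cancel],
      k₀, hk₀X, hk₀, fun h => hk₀z (mul_inv_eq_one.1 (Subgroup.mem_bot.1 h))⟩
  letI : CommGroup V := { mul_comm := fun u v => hV.1.1.1 u v }
  set W₁ := W.subgroupOf V with hW₁
  have hpV : ∀ v : Additive (V ⧸ W₁), p • v = 0 := fun v => by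
      apply Additive.toMul.injective
      obtain ⟨u, hu⟩ := QuotientGroup.mk_surjective (Additive.toMul v)
      rw [toMul_nsmul, ← hu, ← QuotientGroup.mk_pow,
        show u ^ p = 1 from Subtype.ext (hV.2 _ u.2), toMul_zero, QuotientGroup.mk_one]
  letI : Module (ZMod p) (Additive (V ⧸ W₁)) := AddCommGroup.zmodModule (n := p) hpV
  let θ : X →* MulAut V := V.normalizerMonoidHom.comp (Subgroup.inclusion hXV)
  have hθ : ∀ (h : X) (x : V), ((θ h x : V) : Q) = h * x * (h : Q)⁻¹ := fun h x => rfl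
  have hθW : ∀ h : X, W₁ ≤ W₁.comap (θ h).toMonoidHom := fun h x hx => by
    show ((θ h x : V) : Q) ∈ W
    rw [hθ]
    exact (Subgroup.mem_normalizer_iff.1 (hXW h.2) _).1 hx
  let σ : X → ((V ⧸ W₁) →* (V ⧸ W₁)) := fun h => QuotientGroup.map W₁ W₁ (θ h).toMonoidHom (hθW h)
  let ρ : X →* Module.End (ZMod p) (Additive (V ⧸ W₁)) := by
    refine { toFun := fun h => (σ h).toAdditive.toZModLinearMap p, map_one' := ?_, map_mul' := ?_ }
    · refine LinearMap.ext fun v => ?_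
      obtain ⟨u, hu⟩ := QuotientGroup.mk_surjective (Additive.toMul v)
      apply Additive.toMul.injective
      show σ 1 (Additive.toMul v) = Additive.toMul v
      rw [← hu]
      show (↑(θ 1 u) : V ⧸ W₁) = ↑u
      rw [map_one, MulAut.one_apply]
    · refine fun g h => LinearMap.ext fun v => ?_
      obtain ⟨u, hu⟩ := QuotientGroup.mk_surjective (Additive.toMul v)
      apply Additive.toMul.injective
      show σ (g * h) (Additive.toMul v) = σ g (σ h (Additive.toMul v))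
      rw [← hu]
      show (↑(θ (g * h) u) : V ⧸ W₁) = ↑(θ g (θ h u))
      rw [map_mul, MulAut.mul_apply]
  let e : V → Additive (V ⧸ W₁) := fun u => Additive.ofMul (QuotientGroup.mk u)
  have he : ∀ (h : X) (u : V), ρ h (e u) = e (θ h u) := fun h u => rfl
  have hes : ∀ v, ∃ u, e u = v := fun v => QuotientGroup.mk_surjective (Additive.toMul v)
  have heq : ∀ u u' : V, e u = e u' ↔ (u : Q) * (u' : Q)⁻¹ ∈ W := fun u u' => by
    show (Additive.ofMul _ = Additive.ofMul _) ↔ _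
    rw [Equiv.apply_eq_iff_eq, QuotientGroup.eq_iff_div_mem, div_eq_mul_inv, hW₁,
      Subgroup.mem_subgroupOf, Subgroup.coe_mul, Subgroup.coe_inv]
  have hesub : ∀ u u' : V, e u - e u' = e (u * u'⁻¹) := fun u u' => by
    rw [sub_eq_add_neg]; rfl
  have hpow : ∀ (n : ℕ) (u : V), n • e u = e (u ^ n) := fun n u => rfl
  have he1 : ∀ u : V, e u = 0 ↔ (u : Q) ∈ W := fun u => by
    rw [show (0 : Additive (V ⧸ W₁)) = e 1 from rfl, heq, Subgroup.coe_one, inv_one, mul_one]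
  have hquad : ∀ u : X, (∀ v ∈ V, Commute (u : Q) ((u : Q) * v * (u : Q)⁻¹ * v⁻¹)) → IsQuad ρ u := by
    intro u hu v
    obtain ⟨v, rfl⟩ := hes v
    rw [he, hesub, he]
    refine congrArg e (Subtype.ext ?_)
    rw [hθ, Subgroup.coe_mul, Subgroup.coe_inv, hθ, (hu _ v.2).eq, mul_inv_cancel_right]
  set a' : X := ⟨a, Subgroup.subset_closure (Set.mem_insert _ _)⟩
  set b' : X := ⟨b, Subgroup.subset_closure (Set.mem_insert_of_mem _ rfl)⟩
  have hzp : ∀ {g : X}, IsPGroup p ↥(Subgroup.zpowers (g : Q)) → IsPGroup p ↥(Subgroup.zpowers g) := by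
    intro g h
    exact (h.comap_of_injective X.subtype X.subtype_injective).to_le
      (Subgroup.zpowers_le.2 (Subgroup.mem_zpowers (g : Q)))
  set z' : V := ⟨z, hz⟩
  have hθz : ∀ g : X, (g : Q) * z * (g : Q)⁻¹ = z → ρ g (e z') = e z' := fun g hg => by
    rw [he]; exact congrArg e (Subtype.ext hg)
  obtain ⟨P, t, s, w, v, hP, haP, htP, hs, hw, haw, hav, htw, htv, htz, htu⟩ :=
    exists_torus_affine hp ρ (closure_pair_eq_top a b) (hzp ha) (hzp hb) (hquad a' hqa) (hquad b' hqb)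
      (hθz a' haz) ⟨⟨k₁, hk₁X⟩, by rwa [← Subgroup.orderOf_coe], fun h => hk₁z <| by
        rw [he, heq] at h; exact h⟩ (by
      intro U hU hU0 k hk
      let W' : Subgroup Q :=
        { carrier := {x | ∃ hx : x ∈ V, e ⟨x, hx⟩ ∈ U}
          one_mem' := ⟨one_mem V, U.zero_mem⟩
          mul_mem' := fun ⟨h1, h2⟩ ⟨h3, h4⟩ => ⟨mul_mem h1 h3, U.add_mem h2 h4⟩
          inv_mem' := fun ⟨h1, h2⟩ => ⟨inv_mem h1, U.neg_mem h2⟩ }
      have hWW' : W ≤ W' := fun x hx => ⟨hWV hx, by rw [(he1 ⟨x, hWV hx⟩).2 hx]; exact U.zero_mem⟩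
      have hXW' : X ≤ Subgroup.normalizer (W' : Set Q) := fun g hg =>
        mem_of_conj_le fun x ⟨hx, hxU⟩ => ⟨(Subgroup.mem_normalizer_iff.1 (hXV hg) x).1 hx,
          hU ⟨g, hg⟩ _ hxU⟩
      by_contra hcon
      refine hWmax W' ⟨fun x hx => hx.1, hXW', k, k.2, by rwa [Subgroup.orderOf_coe], fun ⟨h1, h2⟩ => hcon ?_⟩
        (lt_of_le_of_ne hWW' fun hW' => hU0 ?_)
      · rw [he, hesub]; exact h2
      · refine (Submodule.eq_bot_iff _).2 fun u hu => ?_
        obtain ⟨u, rfl⟩ := hes u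
        have h5 : (u : Q) ∈ W' := ⟨u.2, hu⟩
        rw [← hW'] at h5
        exact (he1 u).2 h5)
      (fun x hx => hθz _ (hfix x x.2 (by
        have h1 := hx.map X.subtype
        rw [MonoidHom.map_closure, Set.image_pair] at h1
        exact h1)))
  obtain ⟨w, rfl⟩ := hes w
  obtain ⟨v, rfl⟩ := hes v
  rw [he, heq] at haw
  rw [he, show e w + e v = e (w * v) from rfl, heq] at hav
  rw [he, hpow, heq] at htw htv
  rw [he, hesub, Ne, he1] at htz
  rw [he, hesub, he, hpow, heq] at htu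
  refine ⟨W, P.map X.subtype, t, w, v, s, hWV, hXW, Subgroup.map_subtype_le P, hP.map _, ⟨a', haP, rfl⟩,
    t.2, mem_of_conj_le ?_, hs, w.2, v.2, fun h => hw ((he1 w).2 h), haw, hav, htw, htv, htz, htu⟩
  rintro _ ⟨x, hx, rfl⟩
  exact ⟨t * x * t⁻¹, (Subgroup.mem_normalizer_iff.1 htP x).1 hx, rfl⟩

end Cfsg.Agent.ZJFusion
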