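/-
The quadratic module stage.

* `Setup` : a local subgroup `L` with the module `V` modulo `F`;
* `quad_conflict` : a quadratic element moving `y` modulo `F` in a normaliser gives the conclusion;
* `claim` : conjugations of subgroups generated by quadratic elements are realised;
* `ctrl_of_quad` : control in `L`.
-/
import Cfsg.Agent.Lib.ZJFusion.Eigen
import Cfsg.Agent.Lib.ZJFusion.Torus

set_option autoImplicit false

namespace Cfsg.Agent.ZJFusion

open Subgroup Cfsg.Agent Cfsg.Agent.WeaklyClosed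

universe u

variable {G : Type u} [Group G] {p : ℕ}

/-- The hypotheses. -/
structure Setup (p : ℕ) [Fact p.Prime] (Y F V U R L : Subgroup G) [F.Normal] (y : G) : Prop where
  noConcl : ¬ Concl p Y
  Ycomm : ∀ a ∈ Y, ∀ b ∈ Y, a * b = b * a
  Yp : IsPGroup p ↥Y
  RY : R ≤ normalizer (Y : Set G)
  syl : Fusion.IsSylowIn p R L
  FV : F ≤ V
  VU : V ≤ U
  UR : U ≤ R
  Un : L ≤ normalizer (U : Set G)
  Vn : L ≤ normalizer (V : Set G)
  Fp : IsPGroup p ↥F
  Vc : ∀ a ∈ V, ∀ b ∈ V, a * b * a⁻¹ * b⁻¹ ∈ F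
  Vp : ∀ a ∈ V, a ^ p ∈ F
  yV : y ∈ V
  yY : y ∈ Y
  yR : R ≤ cmod F {y}
  cy : Ctrl Y (L ⊓ cmod F {y}) R
  proper : ∀ L' : Subgroup G, R ≤ L' → L' < L → Ctrl Y L' R
  Umax : ∀ N : Subgroup G, IsPGroup p ↥N → N ≤ L → L ≤ normalizer (N : Set G) → N ≤ U
  UC : U ≤ cmod F (V : Set G)

/-- The quadratically acting `p`-elements. -/
def quadSet (p : ℕ) (F V L : Subgroup G) [F.Normal] : Set G :=
  {d | d ∈ L ∧ IsPGroup p ↥(zpowers d) ∧ d ∉ cmod F (V : Set G) ∧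
    ∀ v ∈ V, d * (d * v * d⁻¹ * v⁻¹) * d⁻¹ * (d * v * d⁻¹ * v⁻¹)⁻¹ ∈ F}

/-- Generated by its quadratic elements and `U`. -/
def Spanned (p : ℕ) (F V U L P : Subgroup G) [F.Normal] : Prop :=
  P = closure (quadSet p F V L ∩ (P : Set G)) ⊔ U

theorem quadSet_conj {F V L : Subgroup G} [F.Normal] (hV : L ≤ normalizer (V : Set G)) {l d : G}
    (hl : l ∈ L) (hd : d ∈ quadSet p F V L) : l * d * l⁻¹ ∈ quadSet p F V L := by
  obtain ⟨hdL, hdp, hdC, hdq⟩ := hd
  refine ⟨mul_mem (mul_mem hl hdL) (inv_mem hl), ?_, fun h => hdC ?_, fun v hv => ?_⟩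
  · have h1 := hdp.map (MulAut.conj l).toMonoidHom
    rwa [MonoidHom.map_zpowers] at h1
  · have h1 := conj_mem_cmod (n := l⁻¹) (fun a ha => by
      rw [inv_inv]; exact (mem_normalizer_iff.1 (hV hl) a).1 ha) h
    rwa [inv_inv, show l⁻¹ * (l * d * l⁻¹) * l = d by group] at h1
  · have h1 := Normal.conj_mem ‹F.Normal› _ (hdq _ ((mem_normalizer_iff''.1 (hV hl) v).1 hv)) l
    convert h1 using 1; group

theorem Setup.quad_notMem [Fact p.Prime] {Y F V U R L : Subgroup G} [F.Normal] {y : G}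
    (h : Setup p Y F V U R L y) {d : G} (hd : d ∈ quadSet p F V L) : d ∉ U := fun hdU =>
  hd.2.2.1 (h.UC hdU)

theorem image_quad_conj [Finite G] {F V L : Subgroup G} [F.Normal] (hV : L ≤ normalizer (V : Set G))
    {l : G} (hl : l ∈ L) (Q : Subgroup G) :
    (fun x => l * x * l⁻¹) '' (quadSet p F V L ∩ (Q : Set G)) =
      quadSet p F V L ∩ ((cj l Q : Subgroup G) : Set G) := by
  ext x
  constructor
  · rintro ⟨d, ⟨hd, hdQ⟩, rfl⟩
    exact ⟨quadSet_conj hV hl hd, conj_mem_cj hdQ⟩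
  · rintro ⟨hx, hxQ⟩
    refine ⟨l⁻¹ * x * l, ⟨?_, mem_cj.1 hxQ⟩, by group⟩
    have := quadSet_conj (p := p) hV (inv_mem hl) hx
    rwa [inv_inv] at this

theorem ncard_quad_conj [Finite G] {F V L : Subgroup G} [F.Normal] (hV : L ≤ normalizer (V : Set G))
    {l : G} (hl : l ∈ L) (Q : Subgroup G) :
    (quadSet p F V L ∩ ((cj l Q : Subgroup G) : Set G)).ncard =
      (quadSet p F V L ∩ (Q : Set G)).ncard := by
  rw [← image_quad_conj hV hl, Set.ncard_image_of_injective _ fun a b hab => by simpa using hab]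

theorem spanned_of_le {F V U L Q : Subgroup G} [F.Normal] (hU : U ≤ Q) :
    Spanned p F V U L (closure (quadSet p F V L ∩ (Q : Set G)) ⊔ U) ∧
      closure (quadSet p F V L ∩ (Q : Set G)) ⊔ U ≤ Q ∧
      quadSet p F V L ∩ ((closure (quadSet p F V L ∩ (Q : Set G)) ⊔ U : Subgroup G) : Set G) =
        quadSet p F V L ∩ (Q : Set G) := by
  have hle : closure (quadSet p F V L ∩ (Q : Set G)) ⊔ U ≤ Q :=
    sup_le ((closure_le _).2 Set.inter_subset_right) hU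
  have he : quadSet p F V L ∩ ((closure (quadSet p F V L ∩ (Q : Set G)) ⊔ U : Subgroup G) : Set G) =
      quadSet p F V L ∩ (Q : Set G) :=
    Set.Subset.antisymm (fun x hx => ⟨hx.1, hle hx.2⟩)
      fun x hx => ⟨hx.1, mem_sup_left (subset_closure hx)⟩
  exact ⟨by unfold Spanned; rw [he], hle, he⟩

theorem Spanned.le {F V U L P : Subgroup G} [F.Normal] (h : Spanned p F V U L P) : U ≤ P :=
  h.symm ▸ le_sup_right

theorem Spanned.conj [Finite G] {F V U L P : Subgroup G} [F.Normal] (hV : L ≤ normalizer (V : Set G))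
    (hUn : L ≤ normalizer (U : Set G)) (h : Spanned p F V U L P) {l : G} (hl : l ∈ L) :
    Spanned p F V U L (cj l P) := by
  have h1 : cj l P = cj l (closure (quadSet p F V L ∩ (P : Set G))) ⊔ cj l U := by
    conv_lhs => rw [h]
    exact map_sup _ _ _
  have h2 : cj l (closure (quadSet p F V L ∩ (P : Set G))) =
      closure (quadSet p F V L ∩ ((cj l P : Subgroup G) : Set G)) := by
    rw [cj, MonoidHom.map_closure, ← image_quad_conj hV hl]
    rfl
  rw [cj_of_mem (hUn hl), h2] at h1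
  exact h1

theorem Spanned.mem_normalizer [Finite G] {F V U L P : Subgroup G} [F.Normal]
    (h : Spanned p F V U L P) {r : G} (hU : r ∈ normalizer (U : Set G))
    (hD : ∀ d ∈ quadSet p F V L, d ∈ P → r * d * r⁻¹ ∈ P) : r ∈ normalizer (P : Set G) := by
  refine mem_normalizer_fintype ?_
  have hle : P ≤ P.comap (MulAut.conj r).toMonoidHom := by
    conv_lhs => rw [h]
    exact sup_le ((closure_le _).2 fun d hd => hD d hd.1 hd.2)
      fun x hx => h.le ((mem_normalizer_iff.1 hU x).1 hx)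
  exact fun x hx => hle hx

theorem exists_conj_residual {X : Type u} [Group X] [Finite X] [Fact p.Prime] {a b : X}
    (ha : IsPGroup p ↥(zpowers a)) (hb : IsPGroup p ↥(zpowers b)) :
    ∃ r ∈ Cfsg.pResidual p X, ∃ P : Sylow p X, a ∈ (P : Subgroup X) ∧ r * b * r⁻¹ ∈ (P : Subgroup X) := by
  obtain ⟨P₁, hP₁⟩ := ha.exists_le_sylow
  obtain ⟨P₂, hP₂⟩ := hb.exists_le_sylow
  obtain ⟨g, hg⟩ := MulAction.exists_smul_eq X P₂ P₁
  have hgb : g * b * g⁻¹ ∈ (P₁ : Subgroup X) := by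
    rw [← hg]; exact ⟨b, hP₂ (mem_zpowers b), rfl⟩
  obtain ⟨r, hr, q, hq, hrq⟩ := PReduced.exists_eq_mul_of_pResidual P₁ g⁻¹
  refine ⟨r⁻¹, inv_mem hr, P₁, hP₁ (mem_zpowers a), ?_⟩
  rw [show r⁻¹ * b * r⁻¹⁻¹ = q * (g * b * g⁻¹) * q⁻¹ by
    rw [show g = (r * q)⁻¹ by rw [← hrq, inv_inv]]; group]
  exact mul_mem (mul_mem hq hgb) (inv_mem hq)

variable [Finite G] [Fact p.Prime]

/-- A quadratic element moving `y` in a subgroup normalising `P` contradicts the failure of the conclusion. -/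
theorem quad_conflict (hp : p ≠ 2) {Y F V U R L : Subgroup G} [F.Normal] {y : G}
    (h : Setup p Y F V U R L y) {P M R₁ : Subgroup G} (hUP : U ≤ P) (hPR : P ≤ R) (hML : M ≤ L)
    (hPM : P ≤ M) (hMP : M ≤ normalizer (P : Set G)) (hR₁ : Fusion.IsSylowIn p R₁ M) (hR₁R : R₁ ≤ R)
    (hd₀ : ∃ d ∈ quadSet p F V L, d ∈ M ∧ d ∉ cmod F {y})
    (IH : ∀ P' ≤ R, Spanned p F V U L P' →
      (quadSet p F V L ∩ (P : Set G)).ncard < (quadSet p F V L ∩ (P' : Set G)).ncard →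
        ∀ t ∈ L, cj t P' ≤ R → Real Y P' t) : False := by
  classical
  set D := quadSet p F V L with hD
  set Cy : Subgroup G := cmod F {y} with hCy
  set π := QuotientGroup.mk' F with hπ
  -- a maximal family of quadratic elements centralising `y`
  obtain ⟨S₂, ⟨hS₂, d₁, hd₁D, hd₁S, hd₁y⟩, hmax⟩ := Set.exists_max_image
    {Q : Subgroup G | (IsPGroup p ↥Q ∧ Q ≤ M) ∧ ∃ d ∈ D, d ∈ Q ∧ d ∉ Cy}
    (fun Q => (D ∩ ((Q ⊓ Cy : Subgroup G) : Set G)).ncard) (Set.toFinite _) (by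
      obtain ⟨d, hd, hdM, hdy⟩ := hd₀
      exact ⟨zpowers d, ⟨hd.2.1, zpowers_le.2 hdM⟩, d, hd, mem_zpowers d, hdy⟩)
  obtain ⟨S₃, hS₂₃, hS₃⟩ := Fusion.exists_isSylowIn_ge hS₂.1 hS₂.2
  set E := D ∩ ((S₃ ⊓ Cy : Subgroup G) : Set G) with hE
  have hS₂le : (D ∩ ((S₂ ⊓ Cy : Subgroup G) : Set G)).ncard ≤ E.ncard :=
    Set.ncard_le_ncard (Set.inter_subset_inter_right _
      (SetLike.coe_subset_coe.2 (inf_le_inf_right _ hS₂₃))) (Set.toFinite _)
  set Pe := closure E with hPe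
  have hPeS : Pe ≤ S₃ ⊓ Cy := (closure_le _).2 Set.inter_subset_right
  have hDPe : ∀ d ∈ D, d ∈ Pe → d ∈ E := fun d hd h' => ⟨hd, hPeS h'⟩
  have hPP : P ≤ S₃ := by
    have h1 : IsPGroup p ↥(S₃ ⊔ P : Subgroup G) :=
      hS₃.2.1.to_sup_of_normal_right' (h.syl.2.1.to_le hPR) (hS₃.1.trans hMP)
    exact le_sup_right.trans (hS₃.2.2 _ le_sup_left (sup_le hS₃.1 hPM) h1).le
  have hPE : (D ∩ (P : Set G)).ncard ≤ E.ncard :=
    Set.ncard_le_ncard (fun x hx => ⟨hx.1, hPP hx.2, h.yR (hPR hx.2)⟩) (Set.toFinite _)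
  -- the second element
  obtain ⟨d', hd'D, hd'S, hd'E, hd'N⟩ := exists_grow hS₃.2.1 (hPeS.trans inf_le_left) (D := D)
    (fun r hr d hd => quadSet_conj h.Vn (hML (hS₃.1 hr)) hd)
    (fun r _ hr => mem_normalizer_fintype fun x hx => by
      have hle : Pe ≤ Pe.comap (MulAut.conj r).toMonoidHom :=
        (closure_le _).2 fun d hd => hr d hd.1 (subset_closure hd)
      exact hle hx)
    ⟨d₁, hd₁D, hS₂₃ hd₁S, fun h' => hd₁y (hPeS h').2⟩
  have hd'y : d' ∉ Cy := fun h' => hd'E (subset_closure ⟨hd'D, hd'S, h'⟩)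
  -- the first element
  have hR₁Cy : R₁ ≤ M ⊓ Cy := le_inf hR₁.1 (hR₁R.trans h.yR)
  have hR₁' : Fusion.IsSylowIn p R₁ (M ⊓ Cy) := hR₁.mono hR₁Cy inf_le_left
  obtain ⟨c₀, hc₀, hc₀R⟩ := hR₁'.exists_conj_le (hS₃.2.1.to_le (hPeS.trans inf_le_left))
    (le_inf ((hPeS.trans inf_le_left).trans hS₃.1) (hPeS.trans inf_le_right))
  set P₁ := cj c₀⁻¹ R₁ with hP₁
  have hc₀M : c₀⁻¹ ∈ M := inv_mem (mem_inf.1 hc₀).1
  have hPeP₁ : Pe ≤ P₁ := fun x hx => by
    rw [hP₁, mem_cj, inv_inv]; exact hc₀R x hx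
  have hP₁le : P₁ ≤ M ⊓ Cy := cj_le_of_mem hR₁Cy (inv_mem hc₀)
  obtain ⟨d, hdD, hdP₁, hdPe, hdN⟩ := exists_grow (hR₁.2.1.map _) hPeP₁ (D := D)
    (fun r hr d hd => quadSet_conj h.Vn (hML (hP₁le hr).1) hd)
    (fun r _ hr => mem_normalizer_fintype fun x hx => by
      have hle : Pe ≤ Pe.comap (MulAut.conj r).toMonoidHom :=
        (closure_le _).2 fun d hd => hr d hd.1 (subset_closure hd)
      exact hle hx) (by
    by_contra hno
    push Not at hno
    have h1 : (D ∩ (P₁ : Set G)).ncard ≤ E.ncard :=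
      Set.ncard_le_ncard (fun x hx => hDPe x hx.1 (hno x hx.1 hx.2)) (Set.toFinite _)
    obtain ⟨m, hm, hmS⟩ := hR₁.exists_conj_le hS₃.2.1 hS₃.1
    have h2 : cj m S₃ = R₁ := Subgroup.eq_of_le_of_card_ge (conj_le_iff.2 hmS)
      (by rw [cj, Subgroup.card_map_of_injective (MulAut.conj m).injective, hR₁.card, hS₃.card])
    rw [hP₁, ncard_quad_conj h.Vn (hML hc₀M), ← h2, ncard_quad_conj h.Vn (hML hm), ← hD] at h1
    have h3 : E.ncard < (D ∩ (S₃ : Set G)).ncard :=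
      Set.ncard_lt_ncard ⟨fun x hx => ⟨hx.1, hx.2.1⟩, fun hss => hd₁y (hss ⟨hd₁D, hS₂₃ hd₁S⟩).2.2⟩
        (Set.toFinite _)
    omega)
  have hdy : d ∈ Cy := (hP₁le hdP₁).2
  have hdE : d ∉ E := fun h' => hdPe (subset_closure h')
  have hdM : d ∈ M := (hP₁le hdP₁).1
  have hd'M : d' ∈ M := hS₃.1 hd'S
  have hA : ∀ Q : Subgroup G, IsPGroup p ↥Q → Q ≤ M → Pe ≤ Q → d ∈ Q → ∀ e ∈ D, e ∈ Q → e ∈ Cy := by
    intro Q hQ hQM hEQ hdQ e he heQ
    by_contra hey
    have h1 := hmax Q ⟨⟨hQ, hQM⟩, e, he, heQ, hey⟩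
    have h2 : E.ncard < (D ∩ ((Q ⊓ Cy : Subgroup G) : Set G)).ncard :=
      Set.ncard_lt_ncard ⟨fun x hx => ⟨hx.1, hEQ (subset_closure hx), hx.2.2⟩,
        fun hss => hdE (hss ⟨hdD, hdQ, hdy⟩)⟩ (Set.toFinite _)
    omega
  set X := closure ({d, d'} : Set G) with hX
  have hdX : d ∈ X := subset_closure (Set.mem_insert _ _)
  have hd'X : d' ∈ X := subset_closure (Set.mem_insert_of_mem _ rfl)
  have hXM : X ≤ M := (closure_le _).2 (by rintro x (rfl | rfl) <;> assumption)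
  have hXPe : X ≤ normalizer (Pe : Set G) := (closure_le _).2 (by rintro x (rfl | rfl) <;> assumption)
  have hPep : IsPGroup p ↥Pe := hS₃.2.1.to_le (hPeS.trans inf_le_left)
  have hPeM : Pe ≤ M := (hPeS.trans inf_le_left).trans hS₃.1
  have hπV : ∀ x, π x ∈ V.map π → x ∈ V := fun x hx => by
    have h1 : x ∈ (V.map π).comap π := hx
    rwa [comap_map_eq, QuotientGroup.ker_mk', sup_eq_left.2 h.FV] at h1
  have hkerp : IsPGroup p ↥π.ker := by rw [QuotientGroup.ker_mk']; exact h.Fp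
  have hVel : Cfsg.IsElementaryAbelian p (V.map π) := by
    refine ⟨PReduced.isMulCommutative_of_forall ?_, ?_⟩
    · rintro _ ⟨a, ha, rfl⟩ _ ⟨b, hb, rfl⟩
      rw [← map_mul, ← map_mul, ← mul_inv_eq_one, ← map_inv, ← map_mul]
      show ((a * b * (b * a)⁻¹ : G) : G ⧸ F) = 1
      rw [QuotientGroup.eq_one_iff, show a * b * (b * a)⁻¹ = a * b * a⁻¹ * b⁻¹ by group]
      exact h.Vc a ha b hb
    · rintro _ ⟨a, ha, rfl⟩
      rw [← map_pow]; exact (QuotientGroup.eq_one_iff _).2 (h.Vp a ha)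
  have hπeq : ∀ a b : G, a * b⁻¹ ∈ F → π a = π b := fun a b hab => by
    rw [← mul_inv_eq_one, ← map_inv, ← map_mul]; exact (QuotientGroup.eq_one_iff _).2 hab
  have hfixiff : ∀ g, g ∈ Cy ↔ π g * π y * (π g)⁻¹ = π y := fun g => by
    rw [hCy, mem_cmod]
    simp only [Set.mem_singleton_iff, forall_eq]
    rw [← mul_inv_eq_one, ← map_inv, ← map_mul, ← map_mul, ← map_inv, ← map_mul]
    exact (QuotientGroup.eq_one_iff _).symm
  have hmapX : X.map π = closure ({π d, π d'} : Set (G ⧸ F)) := by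
    rw [hX, MonoidHom.map_closure, Set.image_pair]
  have hquad : ∀ e ∈ D, ∀ v ∈ V.map π, Commute (π e) (π e * v * (π e)⁻¹ * v⁻¹) := by
    rintro e he _ ⟨v, hv, rfl⟩
    rw [← map_inv, ← map_inv, ← map_mul, ← map_mul, ← map_mul]
    refine mul_inv_eq_iff_eq_mul.1 ?_
    rw [← map_inv, ← map_mul, ← map_mul]
    exact hπeq _ _ (he.2.2.2 v hv)
  have hzp : ∀ e ∈ D, IsPGroup p ↥(zpowers (π e)) := fun e he => by
    have h1 := he.2.1.map π
    rwa [MonoidHom.map_zpowers] at h1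
  have hnV : ∀ e ∈ M, π e ∈ normalizer ((V.map π : Subgroup (G ⧸ F)) : Set (G ⧸ F)) := fun e he =>
    le_normalizer_map π (mem_map_of_mem π (h.Vn (hML he)))
  -- some element of order prime to `p` moves `y`
  have hk : ∃ k ∈ closure ({π d, π d'} : Set (G ⧸ F)),
      (orderOf k).Coprime p ∧ k * π y * k⁻¹ ≠ π y := by
    by_contra hno
    push Not at hno
    obtain ⟨r, hr, Q, hQd, hQd'⟩ := exists_conj_residual (p := p) (X := ↥X) (a := ⟨d, hdX⟩)
      (b := ⟨d', hd'X⟩)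
      ((hdD.2.1.comap_of_injective X.subtype X.subtype_injective).to_le (zpowers_le.2 (mem_zpowers d)))
      ((hd'D.2.1.comap_of_injective X.subtype X.subtype_injective).to_le (zpowers_le.2 (mem_zpowers d')))
    have hres : Cfsg.pResidual p ↥X ≤ Cy.comap X.subtype := (closure_le _).2 fun k hk => by
      show (k : G) ∈ Cy
      rw [hfixiff]
      refine hno _ (hmapX ▸ mem_map_of_mem π k.2) (Nat.Coprime.coprime_dvd_left ?_ hk)
      rw [← Subgroup.orderOf_coe]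
      exact orderOf_map_dvd π _
    have hrC : (r : G) ∈ Cy := hres hr
    set Q' := (Q : Subgroup ↥X).map X.subtype with hQ'
    have hQ'X : Q' ≤ X := map_subtype_le _
    have hsup : IsPGroup p ↥(Q' ⊔ Pe : Subgroup G) :=
      (Q.2.map X.subtype).to_sup_of_normal_right' hPep (hQ'X.trans hXPe)
    have h1 : (r : G) * d' * (r : G)⁻¹ ∈ Cy := hA (Q' ⊔ Pe) hsup (sup_le (hQ'X.trans hXM) hPeM)
      le_sup_right (mem_sup_left ⟨_, hQd, rfl⟩) _ (quadSet_conj h.Vn (hML (hXM r.2)) hd'D)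
      (mem_sup_left ⟨_, hQd', rfl⟩)
    refine hd'y ?_
    have h2 := mul_mem (mul_mem (inv_mem hrC) h1) hrC
    rwa [show (r : G)⁻¹ * ((r : G) * d' * (r : G)⁻¹) * r = d' by group] at h2
  obtain ⟨Wq, Pq, tq, wq, vq, s, hWV, hXW, hPX, hPp, hdP, htX, htP, hs, hwV, hvV, hw, hdw, hdv, htw,
      htv, htz, htu⟩ := exists_torus_data hp hVel (hnV d hdM) (hnV d' hd'M) (hzp d hdD) (hzp d' hd'D)
      (hquad d hdD) (hquad d' hd'D) (mem_map_of_mem π h.yV) ((hfixiff d).1 hdy) hk (by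
    intro x hx hxp
    rw [← hmapX] at hx
    obtain ⟨x, hxX, rfl⟩ := hx
    rw [← map_inv, ← map_mul, ← map_mul]
    refine (hfixiff _).1 ?_
    set Q' := closure ({d, x * d' * x⁻¹} : Set G) with hQ'
    have hQ'X : Q' ≤ X := (closure_le _).2 (by
      rintro z (rfl | rfl)
      · exact hdX
      · exact mul_mem (mul_mem hxX hd'X) (inv_mem hxX))
    have hQ'p : IsPGroup p ↥Q' := by
      refine (hxp.comap_of_ker_isPGroup π hkerp).to_le (map_le_iff_le_comap.1 ?_)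
      rw [hQ', MonoidHom.map_closure, Set.image_pair, map_mul, map_mul, map_inv]
    exact hA (Q' ⊔ Pe) (hQ'p.to_sup_of_normal_right' hPep (hQ'X.trans hXPe))
      (sup_le (hQ'X.trans hXM) hPeM) le_sup_right (mem_sup_left (subset_closure (Set.mem_insert _ _))) _
      (quadSet_conj h.Vn (hML (hXM hxX)) hd'D)
      (mem_sup_left (subset_closure (Set.mem_insert_of_mem _ rfl))))
  rw [← hmapX] at hXW hPX htX
  obtain ⟨t, htX', rfl⟩ := htX
  obtain ⟨w, hwV', rfl⟩ := hwV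
  obtain ⟨v, hvV', rfl⟩ := hvV
  set W := Wq.comap π with hW
  have hFW : F ≤ W := fun x hx => by
    show π x ∈ Wq
    rw [show π x = 1 from (QuotientGroup.eq_one_iff x).2 hx]; exact one_mem _
  -- a `p`-subgroup normalised by `t`
  set PX := Pq.comap π ⊓ X with hPX'
  have hPXp : IsPGroup p ↥PX := (hPp.comap_of_ker_isPGroup π hkerp).to_le inf_le_left
  set Q := PX ⊔ Pe ⊔ U with hQ
  have hPXM : PX ≤ M := inf_le_right.trans hXM
  have hQ0 : PX ⊔ Pe ≤ M := sup_le hPXM hPeM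
  have hQp : IsPGroup p ↥Q :=
    (hPXp.to_sup_of_normal_right' hPep (inf_le_right.trans hXPe)).to_sup_of_normal_right'
      (h.syl.2.1.to_le h.UR) (hQ0.trans (hML.trans h.Un))
  have hQM : Q ≤ M := sup_le hQ0 (hUP.trans hPM)
  have hdQ : d ∈ Q := mem_sup_left (mem_sup_left (mem_inf.2 ⟨hdP, hdX⟩))
  have hPeQ : Pe ≤ Q := le_sup_right.trans le_sup_left
  obtain ⟨hJs, hJQ, hJD⟩ := spanned_of_le (p := p) (F := F) (V := V) (L := L) (le_sup_right : U ≤ Q)
  set J := closure (D ∩ (Q : Set G)) ⊔ U with hJ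
  have hJC : J ≤ M ⊓ Cy := sup_le ((closure_le _).2 fun x hx => mem_inf.2
    ⟨hQM hx.2, hA Q hQp hQM hPeQ hdQ x hx.1 hx.2⟩) (le_inf (hUP.trans hPM) (h.UR.trans h.yR))
  obtain ⟨c, hc, hcJ⟩ := hR₁'.exists_conj_le (hQp.to_le hJQ) hJC
  have hcL : c ∈ L := hML (mem_inf.1 hc).1
  have hcy : c ∈ Cy := (mem_inf.1 hc).2
  set P' := cj c J with hP'
  have hP'R : P' ≤ R := (conj_le_iff.2 hcJ).trans hR₁R
  have hP's : Spanned p F V U L P' := hJs.conj h.Vn h.Un hcL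
  have hlt : (D ∩ (P : Set G)).ncard < (D ∩ (P' : Set G)).ncard := by
    rw [hP', hD, ncard_quad_conj h.Vn hcL, ← hD, hJD]
    refine hPE.trans_lt (Set.ncard_lt_ncard ⟨fun x hx => ⟨hx.1, hPeQ (subset_closure hx)⟩,
      fun hss => hdE (hss ⟨hdD, hdQ⟩)⟩ (Set.toFinite _))
  have htL : t ∈ L := hML (hXM htX')
  have htQ : t ∈ normalizer (Q : Set G) := by
    have h1 : t ∈ normalizer (PX : Set G) := mem_normalizer_fintype fun x hx => by
      obtain ⟨hx1, hx2⟩ := mem_inf.1 hx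
      refine mem_inf.2 ⟨?_, mul_mem (mul_mem htX' hx2) (inv_mem htX')⟩
      show π (t * x * t⁻¹) ∈ Pq
      rw [map_mul, map_mul, map_inv]
      exact (mem_normalizer_iff.1 htP _).1 hx1
    refine mem_normalizer_fintype ?_
    have hle : Q ≤ Q.comap (MulAut.conj t).toMonoidHom :=
      sup_le (sup_le (fun x hx => mem_sup_left (mem_sup_left ((mem_normalizer_iff.1 h1 x).1 hx)))
        (fun x hx => mem_sup_left (mem_sup_right ((mem_normalizer_iff.1 (hXPe htX') x).1 hx))))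
        (fun x hx => mem_sup_right ((mem_normalizer_iff.1 (h.Un htL) x).1 hx))
    exact fun x hx => hle hx
  have htJ : t ∈ normalizer (J : Set G) := hJs.mem_normalizer (h.Un htL) fun e he heJ =>
    mem_sup_left (subset_closure ⟨quadSet_conj h.Vn htL he,
      (mem_normalizer_iff.1 htQ e).1 (hJQ heJ)⟩)
  set t' := c * t * c⁻¹ with ht'
  have ht'L : t' ∈ L := mul_mem (mul_mem hcL htL) (inv_mem hcL)
  have ht'P : cj t' P' ≤ R := by
    rw [hP', ← cj_mul, show t' * c = c * t by rw [ht']; group, cj_mul, cj_of_mem htJ]; exact hP'R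
  obtain ⟨n, hnY, hn⟩ := IH P' hP'R hP's hlt t' ht'L ht'P
  -- everything inside `N(Y) ∩ N(W')`
  set W' := cj c W with hW'
  have hmemW' : ∀ x, x ∈ W' ↔ (π c)⁻¹ * π x * π c ∈ Wq := fun x => by
    rw [hW', mem_cj, hW, mem_comap, map_mul, map_mul, map_inv]
  have hW'V : W' ≤ V := fun x hx => by
    have h1 : c⁻¹ * x * c ∈ V := hπV _ (hWV (mem_comap.1 (mem_cj.1 hx)))
    have h2 := (mem_normalizer_iff.1 (h.Vn hcL) _).1 h1
    rwa [show c * (c⁻¹ * x * c) * c⁻¹ = x by group] at h2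
  have hVW' : ∀ g ∈ V, g ∈ normalizer (W' : Set G) := fun g hg => mem_normalizer_fintype fun x hx => by
    have h1 : g * x * g⁻¹ * x⁻¹ ∈ W' := by
      rw [hmemW', show π (g * x * g⁻¹ * x⁻¹) = 1 from (QuotientGroup.eq_one_iff _).2 (h.Vc g hg x (hW'V hx))]
      simp
    have := mul_mem h1 hx
    rwa [inv_mul_cancel_right] at this
  have hXW' : ∀ g ∈ X, c * g * c⁻¹ ∈ normalizer (W' : Set G) := fun g hg => by
    refine mem_normalizer_fintype fun x hx => ?_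
    show c * g * c⁻¹ * x * (c * g * c⁻¹)⁻¹ ∈ W'
    rw [SetLike.mem_coe, hmemW'] at hx
    rw [hmemW']
    have h1 := (mem_normalizer_iff.1 (hXW (mem_map_of_mem π hg)) _).1 hx
    convert h1 using 1
    simp only [map_mul, map_inv]; group
  have hVR : V ≤ R := h.VU.trans h.UR
  have hUP' : U ≤ P' := hP's.le
  have hyP' : y ∈ P' := hUP' (h.VU h.yV)
  set u₀ := t * y * t⁻¹ * y⁻¹ with hu₀
  have hu₀V : u₀ ∈ V := mul_mem ((mem_normalizer_iff.1 (h.Vn htL) y).1 h.yV) (inv_mem h.yV)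
  set u := n * y * n⁻¹ * y⁻¹ with hu
  have huY : u ∈ Y := mul_mem ((mem_normalizer_iff.1 hnY y).1 h.yY) (inv_mem h.yY)
  have huV : u ∈ V := by
    rw [hu, hn y hyP']
    exact mul_mem ((mem_normalizer_iff.1 (h.Vn ht'L) y).1 h.yV) (inv_mem h.yV)
  have hπu : π u = π c * π u₀ * (π c)⁻¹ := by
    have hcy' : π c * π y * (π c)⁻¹ = π y := (hfixiff c).1 hcy
    have hcy2 : (π c)⁻¹ * π y * π c = π y := by
      conv_lhs => rw [← hcy']
      group
    rw [hu, hn y hyP', ht', hu₀]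
    simp only [map_mul, map_inv]
    calc π c * π t * (π c)⁻¹ * π y * (π c * π t * (π c)⁻¹)⁻¹ * (π y)⁻¹
        = π c * π t * ((π c)⁻¹ * π y * π c) * (π t)⁻¹ * ((π c)⁻¹ * (π y)⁻¹ * π c) * (π c)⁻¹ := by group
      _ = π c * (π t * π y * (π t)⁻¹ * (π y)⁻¹) * (π c)⁻¹ := by
          rw [show (π c)⁻¹ * (π y)⁻¹ * π c = ((π c)⁻¹ * π y * π c)⁻¹ by group, hcy2]; group
  have hnW' : n ∈ normalizer (W' : Set G) := mem_normalizer_fintype fun x hx => by
    show n * x * n⁻¹ ∈ W'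
    rw [hn x (hUP' (h.VU (hW'V hx)))]
    exact (mem_normalizer_iff.1 (hXW' t htX') x).1 hx
  set w' := c * w * c⁻¹ with hw'
  set v' := c * v * c⁻¹ with hv'
  have hw'V : w' ∈ V := (mem_normalizer_iff.1 (h.Vn hcL) w).1 hwV'
  have hv'V : v' ∈ V := (mem_normalizer_iff.1 (h.Vn hcL) v).1 hvV'
  have hWF : ∀ x ∈ F, x ∈ W' := fun x hx => by
    rw [hmemW', show π x = 1 from (QuotientGroup.eq_one_iff x).2 hx]; simp
  have hdJ : d ∈ J := mem_sup_left (subset_closure ⟨hdD, hdQ⟩)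
  refine h.noConcl (concl_of_data hp h.Ycomm h.Yp (W := W') (d := c * d * c⁻¹) (n := n) (w := w')
    (v := v') (u := u) ?_ ?_ ?_ ?_ ?_ huY hs ?_ (hWF _ (h.Vp _ hw'V)) (hWF _ (h.Vp _ hv'V))
    (hWF _ (h.Vc _ hw'V _ hv'V)) ?_ ?_ ?_ ?_ ?_ (hWF _ (h.Vp _ huV)) ?_)
  · exact mem_inf.2 ⟨h.RY (hP'R (conj_mem_cj hdJ)), hXW' d hdX⟩
  · exact mem_inf.2 ⟨hnY, hnW'⟩
  · exact mem_inf.2 ⟨h.RY (hVR hw'V), hVW' _ hw'V⟩
  · exact mem_inf.2 ⟨h.RY (hVR hv'V), hVW' _ hv'V⟩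
  · exact mem_inf.2 ⟨h.RY (hVR huV), hVW' _ huV⟩
  · intro h1
    rw [hmemW'] at h1
    refine hw ?_
    convert h1 using 1
    simp only [hw', map_mul, map_inv]; group
  · rw [hmemW']; convert hdw using 1
    simp only [hw', map_mul, map_inv]; group
  · rw [hmemW']; convert hdv using 1
    simp only [hw', hv', map_mul, map_inv]; group
  · rw [hn w' (hUP' (h.VU hw'V)), hmemW']; convert htw using 1
    simp only [hw', ht', map_mul, map_inv, map_pow, conj_pow]; group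
  · rw [hn v' (hUP' (h.VU hv'V)), hmemW']; convert htv using 1
    simp only [hv', ht', map_mul, map_inv, map_pow, conj_pow]; group
  · intro h1
    rw [hmemW', hπu] at h1
    refine htz ?_
    convert h1 using 1
    simp only [hu₀, map_mul, map_inv]; group
  · rw [hn u (hUP' (h.VU huV)), hmemW']; convert htu using 1
    simp only [ht', map_mul, map_inv, map_pow, hπu, conj_pow, hu₀]; group

/-- Conjugations of spanned subgroups of `R` are realised. -/
theorem claim (hp : p ≠ 2) {Y F V U R L : Subgroup G} [F.Normal] {y : G}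
    (h : Setup p Y F V U R L y) (hne : ∃ d ∈ quadSet p F V L, d ∈ R) :
    ∀ P ≤ R, Spanned p F V U L P → ∀ t ∈ L, cj t P ≤ R → Real Y P t := by
  classical
  suffices H : ∀ k, ∀ P ≤ R, Spanned p F V U L P →
      (quadSet p F V L ∩ (R : Set G)).ncard - (quadSet p F V L ∩ (P : Set G)).ncard ≤ k →
      ∀ t ∈ L, cj t P ≤ R → Real Y P t from
    fun P hP hs => H _ P hP hs le_rfl
  intro k
  induction k using Nat.strong_induction_on with
  | _ k ih =>
  intro P hPR hPs hk t ht htR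
  set D := quadSet p F V L with hD
  have hle : ∀ Q ≤ R, (D ∩ (Q : Set G)).ncard ≤ (D ∩ (R : Set G)).ncard := fun Q hQ =>
    Set.ncard_le_ncard (Set.inter_subset_inter_right _ (SetLike.coe_subset_coe.2 hQ)) (Set.toFinite _)
  have IH : ∀ P' ≤ R, Spanned p F V U L P' → (D ∩ (P : Set G)).ncard < (D ∩ (P' : Set G)).ncard →
      ∀ t ∈ L, cj t P' ≤ R → Real Y P' t := fun P' hP' hs' hlt =>
    ih _ (by have := hle P' hP'; omega) P' hP' hs' le_rfl
  obtain ⟨a, ha, haR⟩ := hne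
  by_cases hall : ∀ d ∈ D, d ∈ R → d ∈ P
  · -- `P` is the whole of it
    have hRP : R ≤ normalizer (P : Set G) := fun r hr =>
      hPs.mem_normalizer (h.Un (h.syl.1 hr)) fun d hd hdP =>
        hall _ (quadSet_conj h.Vn (h.syl.1 hr) hd) (mul_mem (mul_mem hr (hPR hdP)) (inv_mem hr))
    have hPt : cj t P ≤ P := by
      rw [hPs.conj h.Vn h.Un ht]
      exact sup_le ((closure_le _).2 fun x hx => hall x hx.1 (htR hx.2)) hPs.le
    have hlt : L ⊓ normalizer (P : Set G) < L := lt_of_le_of_ne inf_le_left fun he => by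
      exact h.quad_notMem ha (h.Umax P (h.syl.2.1.to_le hPR) (hPR.trans h.syl.1)
        (inf_eq_left.1 he) (hall a ha haR))
    refine h.proper _ (le_inf h.syl.1 hRP) hlt t (mem_inf.2 ⟨ht, ?_⟩) P hPR htR
    exact mem_normalizer_fintype fun x hx => hPt (conj_mem_cj hx)
  push Not at hall
  -- conjugate to a fully normalised subgroup
  have toFN : ∀ P₀ ≤ R, Spanned p F V U L P₀ → (D ∩ (P₀ : Set G)).ncard = (D ∩ (P : Set G)).ncard →
      ∃ h₁ ∈ L, Real Y P₀ h₁ ∧ cj h₁ P₀ ≤ R ∧ Spanned p F V U L (cj h₁ P₀) ∧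
        (D ∩ ((cj h₁ P₀ : Subgroup G) : Set G)).ncard = (D ∩ (P : Set G)).ncard ∧
        Fusion.IsSylowIn p (R ⊓ normalizer ((cj h₁ P₀ : Subgroup G) : Set G))
          (L ⊓ normalizer ((cj h₁ P₀ : Subgroup G) : Set G)) := by
    intro P₀ hP₀ hs₀ hc₀
    set Q := R ⊓ normalizer (P₀ : Set G) with hQ
    obtain ⟨B, hQB, hB⟩ := Fusion.exists_isSylowIn_ge (h.syl.2.1.to_le (inf_le_left : Q ≤ R))
      (inf_le_inf_right _ h.syl.1 : Q ≤ L ⊓ normalizer (P₀ : Set G))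
    obtain ⟨h₁, hh₁, hh₁B⟩ := h.syl.exists_conj_le hB.2.1 (hB.1.trans inf_le_left)
    obtain ⟨d, hd, hdR, hdP, hdN⟩ := exists_grow h.syl.2.1 hP₀ (D := D)
      (fun r hr d hd => quadSet_conj h.Vn (h.syl.1 hr) hd)
      (fun r hr hrd => hs₀.mem_normalizer (h.Un (h.syl.1 hr)) hrd) (by
        obtain ⟨d, hd, hdR, hdP⟩ := hall
        by_contra hno
        push Not at hno
        have h1 : D ∩ (R : Set G) ⊆ D ∩ (P₀ : Set G) := fun x hx => ⟨hx.1, hno x hx.1 hx.2⟩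
        have h2 := Set.ncard_le_ncard h1 (Set.toFinite _)
        have h3 : (D ∩ (P : Set G)).ncard < (D ∩ (R : Set G)).ncard :=
          Set.ncard_lt_ncard ⟨fun x hx => ⟨hx.1, hPR hx.2⟩, fun hss => hdP (hss ⟨hd, hdR⟩).2⟩
            (Set.toFinite _)
        omega)
    have hP₀Q : P₀ ≤ Q := le_inf hP₀ Subgroup.le_normalizer
    obtain ⟨hQs, hQle, hQD⟩ := spanned_of_le (p := p) (F := F) (V := V) (L := L) (hs₀.le.trans hP₀Q)
    set P₂ := closure (D ∩ (Q : Set G)) ⊔ U with hP₂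
    have hP₂R : P₂ ≤ R := hQle.trans inf_le_left
    have hlt : (D ∩ (P : Set G)).ncard < (D ∩ (P₂ : Set G)).ncard := by
      rw [hQD, ← hc₀]
      exact Set.ncard_lt_ncard ⟨fun x hx => ⟨hx.1, hP₀Q hx.2⟩,
        fun hss => hdP (hss ⟨hd, mem_inf.2 ⟨hdR, hdN⟩⟩).2⟩ (Set.toFinite _)
    have hreal : Real Y P₂ h₁ := IH P₂ hP₂R hQs hlt h₁ hh₁
      (conj_le_iff.2 fun x hx => hh₁B x (hQB (hQle hx)))
    refine ⟨h₁, hh₁, hreal.mono ?_, conj_le_iff.2 fun x hx => hh₁B x (hQB (hP₀Q hx)),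
      hs₀.conj h.Vn h.Un hh₁, ?_, ?_⟩
    · conv_lhs => rw [hs₀]
      exact sup_le_sup_right (closure_mono (Set.inter_subset_inter_right _ hP₀Q)) U
    · rw [hD, ncard_quad_conj h.Vn hh₁, ← hD, hc₀]
    · have h4 := hB.map (MulAut.conj h₁)
      rw [map_inf _ _ _ (MulAut.conj h₁).injective, Subgroup.map_equiv_normalizer_eq] at h4
      have h5 : cj h₁ L = L := cj_of_mem (Subgroup.le_normalizer hh₁)
      rw [show L.map (MulAut.conj h₁).toMonoidHom = L from h5] at h4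
      have h6 := h4.2.2 (R ⊓ normalizer ((cj h₁ P₀ : Subgroup G) : Set G))
        (le_inf (conj_le_iff.2 hh₁B) (h4.1.trans inf_le_right)) (inf_le_inf_right _ h.syl.1)
        h.syl.2.1.to_inf_left
      rw [h6]
      exact h4
  -- normalisers of fully normalised subgroups
  have core : ∀ P₀ ≤ R, Spanned p F V U L P₀ → (D ∩ (P₀ : Set G)).ncard = (D ∩ (P : Set G)).ncard →
      Fusion.IsSylowIn p (R ⊓ normalizer (P₀ : Set G)) (L ⊓ normalizer (P₀ : Set G)) →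
      ∀ m ∈ L ⊓ normalizer (P₀ : Set G), Real Y P₀ m := by
    intro P₀ hP₀ hs₀ hc₀ hsyl m hm
    set M := L ⊓ normalizer (P₀ : Set G) with hM
    set R₁ := R ⊓ normalizer (P₀ : Set G) with hR₁
    by_cases hDy : ∀ d ∈ D, d ∈ M → d ∈ cmod F {y}
    · set K := closure (D ∩ (M : Set G)) with hK
      have hKM : K ≤ M := (closure_le _).2 Set.inter_subset_right
      have hKn : (K.subgroupOf M).Normal := by
        refine (normal_subgroupOf_iff_le_normalizer hKM).2 fun g hg => mem_normalizer_fintype fun x hx => ?_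
        have hle : K ≤ K.comap (MulAut.conj g).toMonoidHom := (closure_le _).2 fun e he =>
          subset_closure ⟨quadSet_conj h.Vn (mem_inf.1 hg).1 he.1, mul_mem (mul_mem hg he.2) (inv_mem hg)⟩
        exact hle hx
      obtain ⟨SR, hSR⟩ := (Fusion.isSylowIn_iff_exists hsyl.1).1 hsyl
      obtain ⟨n, hn, k₀, hk₀, hnk⟩ := PReduced.frattini_sylow_inf_mul SR (K.subgroupOf M) ⟨m, hm⟩
      have hmnk : m = (n : G) * k₀ := congrArg Subtype.val hnk
      have hk₀C : (k₀ : G) ∈ L ⊓ cmod F {y} :=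
        mem_inf.2 ⟨(mem_inf.1 k₀.2).1, ((closure_le _).2 fun e he => hDy e he.1 he.2 : K ≤ cmod F {y}) hk₀⟩
      have hk₀P : cj (k₀ : G) P₀ = P₀ := cj_of_mem (mem_inf.1 k₀.2).2
      have h1 : Real Y P₀ k₀ := h.cy _ hk₀C P₀ hP₀ (by rw [hk₀P]; exact hP₀)
      have hnR₁ : (n : G) ∈ L := (mem_inf.1 n.2).1
      obtain ⟨hQs, hQle, hQD⟩ := spanned_of_le (p := p) (F := F) (V := V) (L := L)
        (hs₀.le.trans (le_inf hP₀ Subgroup.le_normalizer) : U ≤ R₁)
      set P₂ := closure (D ∩ (R₁ : Set G)) ⊔ U with hP₂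
      have hnP₂ : (n : G) ∈ normalizer (P₂ : Set G) := hQs.mem_normalizer (h.Un hnR₁) fun e he heP => by
        have heR : e ∈ R₁ := hQle heP
        have heK : (⟨e, hsyl.1 heR⟩ : ↥M) ∈ (SR : Subgroup ↥M) ⊓ K.subgroupOf M :=
          mem_inf.2 ⟨by rw [hSR]; exact heR, (subset_closure ⟨he, hsyl.1 heR⟩ : e ∈ K)⟩
        have h2 := (mem_inf.1 ((mem_normalizer_iff.1 hn _).1 heK)).1
        rw [hSR] at h2
        exact mem_sup_left (subset_closure ⟨quadSet_conj h.Vn hnR₁ he, h2⟩)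
      obtain ⟨d, hd, hdR, hdP, hdN⟩ := exists_grow h.syl.2.1 hP₀ (D := D)
        (fun r hr d hd => quadSet_conj h.Vn (h.syl.1 hr) hd)
        (fun r hr hrd => hs₀.mem_normalizer (h.Un (h.syl.1 hr)) hrd) (by
          obtain ⟨d, hd, hdR, hdP⟩ := hall
          by_contra hno
          push Not at hno
          have h1 : D ∩ (R : Set G) ⊆ D ∩ (P₀ : Set G) := fun x hx => ⟨hx.1, hno x hx.1 hx.2⟩
          have h2 := Set.ncard_le_ncard h1 (Set.toFinite _)
          have h3 : (D ∩ (P : Set G)).ncard < (D ∩ (R : Set G)).ncard :=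
            Set.ncard_lt_ncard ⟨fun x hx => ⟨hx.1, hPR hx.2⟩, fun hss => hdP (hss ⟨hd, hdR⟩).2⟩
              (Set.toFinite _)
          omega)
      have hP₂R : P₂ ≤ R := hQle.trans inf_le_left
      have hlt : (D ∩ (P : Set G)).ncard < (D ∩ (P₂ : Set G)).ncard := by
        rw [hQD, ← hc₀]
        exact Set.ncard_lt_ncard ⟨fun x hx => ⟨hx.1, mem_inf.2 ⟨hP₀ hx.2, Subgroup.le_normalizer hx.2⟩⟩,
          fun hss => hdP (hss ⟨hd, mem_inf.2 ⟨hdR, hdN⟩⟩).2⟩ (Set.toFinite _)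
      have h2 : Real Y P₂ (n : G) := IH P₂ hP₂R hQs hlt _ hnR₁ (by rw [cj_of_mem hnP₂]; exact hP₂R)
      have h3 : Real Y P₀ (n : G) := by
        refine h2.mono ?_
        conv_lhs => rw [hs₀]
        exact sup_le_sup_right (closure_mono (Set.inter_subset_inter_right _
          (le_inf hP₀ Subgroup.le_normalizer))) U
      rw [hmnk]
      refine h1.mul ?_
      rw [hk₀P]; exact h3
    · push Not at hDy
      exact (quad_conflict hp h hs₀.le hP₀ inf_le_left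
        (le_inf (hP₀.trans h.syl.1) Subgroup.le_normalizer)
        inf_le_right hsyl inf_le_left hDy fun P' hP' hs' hlt => IH P' hP' hs' (hc₀ ▸ hlt)).elim
  obtain ⟨h₁, hh₁, hr₁, hP₁R, hP₁s, hP₁c, hP₁fn⟩ := toFN P hPR hPs rfl
  obtain ⟨h₂, hh₂, hr₂, hP₂R, hP₂s, hP₂c, hP₂fn⟩ := toFN (cj t P) htR (hPs.conj h.Vn h.Un ht)
    (by rw [hD, ncard_quad_conj h.Vn ht])
  set P₁ := cj h₁ P with hP₁
  set P₂ := cj h₂ (cj t P) with hP₂
  set m₀ := h₂ * t * h₁⁻¹ with hm₀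
  have hm₀L : m₀ ∈ L := mul_mem (mul_mem hh₂ ht) (inv_mem hh₁)
  have hm₀P : cj m₀ P₁ = P₂ := by rw [hP₁, hP₂, ← cj_mul, ← cj_mul, hm₀]; congr 1; group
  set Q := R ⊓ normalizer (P₁ : Set G) with hQ
  have hB : cj m₀ Q ≤ L ⊓ normalizer (P₂ : Set G) := by
    refine conj_le_iff.2 fun x hx => mem_inf.2
      ⟨mul_mem (mul_mem hm₀L (h.syl.1 (mem_inf.1 hx).1)) (inv_mem hm₀L), ?_⟩
    rw [← hm₀P, cj, ← Subgroup.map_equiv_normalizer_eq]
    exact mem_map_of_mem _ (mem_inf.1 hx).2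
  obtain ⟨m, hm, hmB⟩ := hP₂fn.exists_conj_le ((h.syl.2.1.to_inf_left : IsPGroup p ↥Q).map _) hB
  obtain ⟨hQs, hQle, hQD⟩ := spanned_of_le (p := p) (F := F) (V := V) (L := L)
    (hP₁s.le.trans (le_inf hP₁R Subgroup.le_normalizer) : U ≤ Q)
  set P₃ := closure (D ∩ (Q : Set G)) ⊔ U with hP₃
  obtain ⟨d, hd, hdR, hdP, hdN⟩ := exists_grow h.syl.2.1 hP₁R (D := D)
    (fun r hr d hd => quadSet_conj h.Vn (h.syl.1 hr) hd)
    (fun r hr hrd => hP₁s.mem_normalizer (h.Un (h.syl.1 hr)) hrd) (by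
      obtain ⟨d, hd, hdR, hdP⟩ := hall
      by_contra hno
      push Not at hno
      have h1 : D ∩ (R : Set G) ⊆ D ∩ (P₁ : Set G) := fun x hx => ⟨hx.1, hno x hx.1 hx.2⟩
      have h2 := Set.ncard_le_ncard h1 (Set.toFinite _)
      have h3 : (D ∩ (P : Set G)).ncard < (D ∩ (R : Set G)).ncard :=
        Set.ncard_lt_ncard ⟨fun x hx => ⟨hx.1, hPR hx.2⟩, fun hss => hdP (hss ⟨hd, hdR⟩).2⟩
          (Set.toFinite _)
      omega)
  have hlt : (D ∩ (P : Set G)).ncard < (D ∩ (P₃ : Set G)).ncard := by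
    rw [hQD, ← hP₁c]
    exact Set.ncard_lt_ncard ⟨fun x hx => ⟨hx.1, mem_inf.2 ⟨hP₁R hx.2, Subgroup.le_normalizer hx.2⟩⟩,
      fun hss => hdP (hss ⟨hd, mem_inf.2 ⟨hdR, hdN⟩⟩).2⟩ (Set.toFinite _)
  have hr₃ : Real Y P₁ (m * m₀) := by
    refine (IH P₃ (hQle.trans inf_le_left) hQs hlt (m * m₀) (mul_mem (mem_inf.1 hm).1 hm₀L) ?_).mono ?_
    · refine conj_le_iff.2 fun x hx => ?_
      have h1 := (mem_inf.1 (hmB _ (conj_mem_cj (g := m₀) (hQle hx)))).1
      rwa [show m * (m₀ * x * m₀⁻¹) * m⁻¹ = m * m₀ * x * (m * m₀)⁻¹ by group] at h1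
    · conv_lhs => rw [hP₁s]
      exact sup_le_sup_right (closure_mono (Set.inter_subset_inter_right _
        (le_inf hP₁R Subgroup.le_normalizer))) U
  have hr₄ : Real Y P₁ m₀ := by
    have hcj : cj (m * m₀) P₁ = P₂ := by rw [cj_mul, hm₀P, cj_of_mem (mem_inf.1 hm).2]
    have h2 : Real Y (cj (m * m₀) P₁) m⁻¹ := by
      rw [hcj]; exact core P₂ hP₂R hP₂s hP₂c hP₂fn m⁻¹ (inv_mem hm)
    have h3 := hr₃.mul h2
    rwa [inv_mul_cancel_left] at h3
  have hr₅ : Real Y P (h₂⁻¹ * (m₀ * h₁)) := (hr₁.mul hr₄).mul (by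
    rw [show cj (m₀ * h₁) P = cj h₂ (cj t P) by rw [cj_mul, ← hP₁, hm₀P, hP₂]]
    exact hr₂.inv)
  rwa [show h₂⁻¹ * (m₀ * h₁) = t by rw [hm₀]; group] at hr₅

/-- Control in `L`. -/
theorem ctrl_of_quad (hp : p ≠ 2) {Y F V U R L : Subgroup G} [F.Normal] {y : G}
    (h : Setup p Y F V U R L y) (hne : ∃ d ∈ quadSet p F V L, d ∈ R) : Ctrl Y L R := by
  classical
  obtain ⟨a, ha, haR⟩ := hne
  set D := quadSet p F V L with hD
  by_cases hDy : ∀ d ∈ D, d ∈ cmod F {y}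
  · set K := closure D with hK
    have hKL : K ≤ L := (closure_le _).2 fun d hd => hd.1
    have hKn : L ≤ normalizer (K : Set G) := fun g hg => mem_normalizer_fintype fun x hx => by
      have hle : K ≤ K.comap (MulAut.conj g).toMonoidHom := (closure_le _).2 fun e he =>
        subset_closure (quadSet_conj h.Vn hg he)
      exact hle hx
    refine ctrl_composite h.syl hKL hKn (h.cy.mono (sup_le (le_inf hKL ((closure_le _).2 hDy))
      (le_inf h.syl.1 h.yR)) le_rfl) (h.proper _ (le_inf h.syl.1 ?_) (lt_of_le_of_ne inf_le_left fun he => ?_))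
    · exact fun r hr => mem_normalizer_fintype fun x hx => mem_inf.2
        ⟨mul_mem (mul_mem hr (mem_inf.1 hx).1) (inv_mem hr),
          (mem_normalizer_iff.1 (hKn (h.syl.1 hr)) x).1 (mem_inf.1 hx).2⟩
    · exact h.quad_notMem ha (h.Umax (R ⊓ K) h.syl.2.1.to_inf_left (inf_le_right.trans hKL)
        (inf_eq_left.1 he) (mem_inf.2 ⟨haR, subset_closure ha⟩))
  · push Not at hDy
    obtain ⟨d, hd, hdy⟩ := hDy
    exact (quad_conflict hp h le_rfl h.UR le_rfl (h.UR.trans h.syl.1) h.Un h.syl le_rfl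
      ⟨d, hd, hd.1, hdy⟩ fun P' hP' hs' _ => claim hp h ⟨a, ha, haR⟩ P' hP' hs').elim

end Cfsg.Agent.ZJFusion
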