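/-
Control of strong fusion: the local analysis.

* `exists_quad_of_not_le` : replacement gives a quadratic element;
* `ctrl_step` : control in a local subgroup;
* `caseI`, `caseII`, `ctrl_top`.
-/
import Cfsg.Agent.Lib.ZJFusion.Module
import Cfsg.Agent.Lib.PLocal.Glauberman
import Cfsg.Agent.Lib.PLocal.Thompson
import Cfsg.Agent.Lib.AlperinFamily.Basic

set_option autoImplicit false

namespace Cfsg.Agent.ZJFusion

open Subgroup Cfsg.Agent Cfsg.Agent.WeaklyClosed Cfsg.Agent.PLocal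
open scoped commutatorElement

universe u

variable {G : Type u} [Group G] {p : ℕ}

/-- The standing assumptions. -/
structure Ctx (p : ℕ) [Fact p.Prime] (Y : Subgroup G) : Prop where
  noConcl : ¬ Concl p Y
  Ycomm : ∀ a ∈ Y, ∀ b ∈ Y, a * b = b * a
  Yp : IsPGroup p ↥Y
  proper : ∀ M : Subgroup G, M ≠ ⊤ → ∀ S : Sylow p G, Good Y S → (S : Subgroup G) ≤ M →
    Ctrl Y M (S : Subgroup G)

theorem le_of_normal_pgroup [Finite G] [Fact p.Prime] {L R N : Subgroup G}
    (hR : Fusion.IsSylowIn p R L) (hN : IsPGroup p ↥N) (hNL : N ≤ L) (hn : L ≤ normalizer (N : Set G)) :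
    N ≤ R := by
  have h1 : IsPGroup p ↥(R ⊔ N : Subgroup G) :=
    hR.2.1.to_sup_of_normal_right' hN (hR.1.trans hn)
  exact le_sup_right.trans (hR.2.2 _ le_sup_left (sup_le hR.1 hNL) h1).le

theorem maxAbelian_conj [Finite G] {R A : Subgroup G} (hA : A ∈ maxIn abelian R) {g : G}
    (hle : cj g A ≤ R) : cj g A ∈ maxIn abelian R := by
  refine ⟨hle, (abelian_map_iff (MulAut.conj g).injective.injOn le_rfl).2 hA.2.1, fun B hB hBa => ?_⟩
  rw [cj, Subgroup.card_map_of_injective (MulAut.conj g).injective]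
  exact hA.2.2 B hB hBa

/-- Replacement: a quadratic element outside `U`. -/
theorem exists_quad_of_not_le {Q : Type u} [Group Q] [Finite Q] [Fact p.Prime] (hp : p ≠ 2)
    {R U V : Subgroup Q} (hR : IsPGroup p ↥R) (hVR : V ≤ R) (hRV : R ≤ normalizer (V : Set Q))
    (hder : ∀ A ∈ maxIn abelian R, ⁅V, V⁆ ≤ A)
    (hcon : ∀ A ∈ maxIn abelian R, A ≤ U → V ≤ A) (hex : ∃ A ∈ maxIn abelian R, ¬ A ≤ U) :
    ∃ a ∈ R, a ∉ U ∧ ∀ v ∈ V, Commute a (a * v * a⁻¹ * v⁻¹) := by
  obtain ⟨A, ⟨hA, hAU⟩, hmax⟩ := Set.exists_max_image {A | A ∈ maxIn abelian R ∧ ¬ A ≤ U}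
    (fun A => Nat.card (A ⊓ V : Subgroup Q)) (Set.toFinite _) (by
      obtain ⟨A, h1, h2⟩ := hex; exact ⟨A, h1, h2⟩)
  by_cases hVA : V ≤ normalizer (A : Set Q)
  · obtain ⟨a, ha, haU⟩ := SetLike.not_le_iff_exists.1 hAU
    refine ⟨a, hA.1 ha, haU, fun v hv => ?_⟩
    refine PReduced.commute_of_isMulCommutative hA.2.1 ha ?_
    rw [mul_assoc, mul_assoc]
    refine mul_mem ha ?_
    rw [← mul_assoc]
    exact (mem_normalizer_iff.1 (hVA hv) _).1 (inv_mem ha)
  · exfalso
    obtain ⟨A', hA'R, hA'c, hA'card, -, -, hlt, hV', -⟩ :=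
      exists_replacement hp hR hA.1 hVR hRV hA.2.1 (hder A hA) hVA
    have hA'm : A' ∈ maxIn abelian R := ⟨hA'R, hA'c, fun B hB hBa => hA'card ▸ hA.2.2 B hB hBa⟩
    by_cases hA'U : A' ≤ U
    · exact hV' (hcon A' hA'm hA'U)
    · have h1 := hmax A' ⟨hA'm, hA'U⟩
      exact hlt.not_ge (Subgroup.eq_of_le_of_card_ge hlt.le h1).ge

variable [Finite G] [Fact p.Prime]

/-- Control in a local subgroup `L`, given a source of quadratic elements. -/
theorem ctrl_step (hp : p ≠ 2) {Y F U R L : Subgroup G} [F.Normal] (hc : Ctx p Y) {S : Sylow p G}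
    (hS : Good Y S) (hRS : R ≤ (S : Subgroup G)) (hsyl : Fusion.IsSylowIn p R L) (hF : IsPGroup p ↥F)
    (hFU : F ≤ U) (hUR : U ≤ R) (hUn : L ≤ normalizer (U : Set G))
    (hUmax : ∀ N : Subgroup G, IsPGroup p ↥N → N ≤ L → L ≤ normalizer (N : Set G) → N ≤ U)
    {y : G} (hyY : y ∈ Y) (hyU : y ∈ U) (hyp : y ^ p ∈ F) (hyS : (S : Subgroup G) ≤ cmod F {y})
    (hyC : cmod F {y} ≠ ⊤)
    (hproper : ∀ L' : Subgroup G, R ≤ L' → L' < L → Ctrl Y L' R)
    (hquad : ∀ V : Subgroup G, F ≤ V → V ≤ U → L ≤ normalizer (V : Set G) →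
      (∀ a ∈ V, ∀ b ∈ V, a * b * a⁻¹ * b⁻¹ ∈ F) →
      (∀ Q : Subgroup G, F ≤ Q → (∀ l ∈ L, l * y * l⁻¹ ∈ Q) → V ≤ Q) →
      (∀ x ∈ R, x ∈ cmod F (V : Set G) → x ∈ U) →
      Ctrl Y L R ∨ ∃ a ∈ R, a ∉ U ∧ ∀ v ∈ V,
        a * (a * v * a⁻¹ * v⁻¹) * a⁻¹ * (a * v * a⁻¹ * v⁻¹)⁻¹ ∈ F) :
    Ctrl Y L R := by
  set s := {x : G | ∃ l ∈ L, l * y * l⁻¹ = x} with hs
  set V := closure s ⊔ F with hV
  have hFV : F ≤ V := le_sup_right
  have hsV : ∀ x ∈ s, x ∈ V := fun x hx => mem_sup_left (subset_closure hx)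
  have hyV : y ∈ V := hsV y ⟨1, one_mem L, by group⟩
  have hsU : ∀ x ∈ s, x ∈ U := by
    rintro x ⟨l, hl, rfl⟩; exact (mem_normalizer_iff.1 (hUn hl) y).1 hyU
  have hVU : V ≤ U := sup_le ((closure_le _).2 hsU) hFU
  have hVn : L ≤ normalizer (V : Set G) := fun g hg => mem_normalizer_fintype fun x hx => by
    have hle : V ≤ V.comap (MulAut.conj g).toMonoidHom := by
      refine sup_le ((closure_le _).2 ?_) fun z hz => mem_sup_right (Normal.conj_mem ‹F.Normal› z hz g)
      rintro z ⟨l, hl, rfl⟩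
      exact hsV _ ⟨g * l, mul_mem hg hl, by simp only [MulEquiv.coe_toMonoidHom, MulAut.conj_apply]; group⟩
    exact hle hx
  have hyR : R ≤ cmod F {y} := hRS.trans hyS
  have hsC : ∀ x ∈ s, x ∈ cmod F (U : Set G) := by
    rintro x ⟨l, hl, rfl⟩
    refine conj_mem_cmod (fun a ha => (mem_normalizer_iff''.1 (hUn hl) a).1 ha) (mem_cmod.2 fun a ha => ?_)
    have h1 := inv_mem (mem_cmod.1 (hyR (hUR ha)) y rfl)
    convert h1 using 1; group
  have hVC : V ≤ cmod F (U : Set G) := sup_le ((closure_le _).2 hsC) (le_cmod_self F _)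
  have hUC : U ≤ cmod F (V : Set G) := le_cmod_iff.1 hVC
  have hVc : ∀ a ∈ V, ∀ b ∈ V, a * b * a⁻¹ * b⁻¹ ∈ F := fun a ha b hb =>
    mem_cmod.1 (hVC ha) b (hVU hb)
  have hVp : ∀ a ∈ V, a ^ p ∈ F := by
    set π := QuotientGroup.mk' F
    let P₀ : Subgroup G :=
      { carrier := {x | x ∈ V ∧ π x ^ p = 1}
        one_mem' := ⟨one_mem V, by simp⟩
        mul_mem' := fun {a b} ⟨ha, ha'⟩ ⟨hb, hb'⟩ => ⟨mul_mem ha hb, by
          have hcm : Commute (π a) (π b) := by
            have h1 : π (a * b * a⁻¹ * b⁻¹) = 1 := (QuotientGroup.eq_one_iff _).2 (hVc a ha b hb)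
            simp only [map_mul, map_inv] at h1
            rwa [mul_inv_eq_one, mul_inv_eq_iff_eq_mul] at h1
          rw [map_mul, hcm.mul_pow, ha', hb', one_mul]⟩
        inv_mem' := fun {a} ⟨ha, ha'⟩ => ⟨inv_mem ha, by rw [map_inv, inv_pow, ha', inv_one]⟩ }
    have hle : V ≤ P₀ := by
      refine sup_le ((closure_le _).2 ?_) fun z hz => ⟨hFV hz, ?_⟩
      · rintro z ⟨l, hl, rfl⟩
        refine ⟨hsV _ ⟨l, hl, rfl⟩, ?_⟩
        rw [← map_pow, conj_pow]
        exact (QuotientGroup.eq_one_iff _).2 (Normal.conj_mem ‹F.Normal› _ hyp l)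
      · rw [show π z = 1 from (QuotientGroup.eq_one_iff z).2 hz, one_pow]
    intro a ha
    exact (QuotientGroup.eq_one_iff _).1 ((map_pow π a p).trans (hle ha).2)
  have hcy : Ctrl Y (L ⊓ cmod F {y}) R := ((hc.proper _ hyC S hS hyS).mono inf_le_right hRS)
  set K := L ⊓ cmod F (V : Set G) with hK
  have hKn : L ≤ normalizer (K : Set G) :=
    (le_inf Subgroup.le_normalizer (hVn.trans le_normalizer_cmod)).trans
      Subgroup.inf_normalizer_le_normalizer_inf
  have hKy : K ≤ cmod F {y} := inf_le_right.trans (cmod_anti (Set.singleton_subset_iff.2 hyV))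
  by_cases hRK : L ≤ normalizer ((R ⊓ K : Subgroup G) : Set G)
  swap
  · refine ctrl_composite hsyl inf_le_left hKn
      (hcy.mono (sup_le (le_inf inf_le_left hKy) (le_inf hsyl.1 hyR)) le_rfl)
      (hproper _ (le_inf hsyl.1 fun r hr => mem_normalizer_fintype fun x hx => mem_inf.2
        ⟨mul_mem (mul_mem hr (mem_inf.1 hx).1) (inv_mem hr),
          (mem_normalizer_iff.1 (hKn (hsyl.1 hr)) x).1 (mem_inf.1 hx).2⟩)
        (lt_of_le_of_ne inf_le_left fun he => hRK (inf_eq_left.1 he)))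
  have hRKU : R ⊓ K ≤ U := hUmax _ hsyl.2.1.to_inf_left (inf_le_right.trans inf_le_left) hRK
  have hout : ∀ x ∈ R, x ∈ cmod F (V : Set G) → x ∈ U := fun x hx hxV =>
    hRKU (mem_inf.2 ⟨hx, mem_inf.2 ⟨hsyl.1 hx, hxV⟩⟩)
  rcases hquad V hFV hVU hVn hVc (fun Q hFQ hQ => sup_le ((closure_le _).2 (by
    rintro z ⟨l, hl, rfl⟩; exact hQ l hl)) hFQ) hout with hC | ⟨a, haR, haU, hqa⟩
  · exact hC
  · exact ctrl_of_quad hp
      ⟨hc.noConcl, hc.Ycomm, hc.Yp, hRS.trans hS.le_normalizer, hsyl, hFV, hVU, hUR, hUn, hVn, hF, hVc, hVp,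
        hyV, hyY, hyR, hcy, hproper, hUmax, hUC⟩
      ⟨a, ⟨hsyl.1 haR, hsyl.2.1.to_le (zpowers_le.2 haR), fun h => haU (hout a haR h), hqa⟩, haR⟩

/-- The case `y ∈ O_p(G)`. -/
theorem caseI (hp : p ≠ 2) {Y F T : Subgroup G} [F.Normal] (hc : Ctx p Y) {S : Sylow p G} (hS : Good Y S)
    (hFY : F ≤ Y) (hT : T.Normal) (hTp : IsPGroup p ↥T)
    (hTmax : ∀ N : Subgroup G, N.Normal → IsPGroup p ↥N → N ≤ T) {y : G} (hyY : y ∈ Y) (hyT : y ∈ T)
    (hyp : y ^ p ∈ F) (hyS : (S : Subgroup G) ≤ cmod F {y}) (hyC : cmod F {y} ≠ ⊤) :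
    Ctrl Y ⊤ (S : Subgroup G) := by
  have hTS : T ≤ (S : Subgroup G) := (PReduced.le_pCore hT hTp).trans (PReduced.pCore_le_sylow S)
  have hFp : IsPGroup p ↥F := hc.Yp.to_le hFY
  have hFn : F.Normal := inferInstance
  have hsyl : Fusion.IsSylowIn p (S : Subgroup G) ⊤ :=
    ⟨le_top, S.2, fun C h1 _ h3 => S.3 h3 h1⟩
  have hYA : ∀ A ∈ maxIn abelian (S : Subgroup G), Y ≤ A := fun A hA x hx =>
    mem_of_centralizes_abelian hA (hS.le hx) (by
      have h1 : x ∈ Cfsg.centerThompsonAOf (S : Subgroup G) := hS.symm ▸ hx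
      refine centralizer_le (SetLike.coe_subset_coe.2 ?_) h1.2
      rw [thompsonSubgroupAOf_eq]
      exact le_sSup hA)
  by_cases hJ : ∀ A ∈ maxIn abelian (S : Subgroup G), A ≤ T
  · -- `J(S)` is normal
    refine ctrl_of_le _ fun g _ => ?_
    set J := Cfsg.thompsonSubgroupAOf (S : Subgroup G) with hJdef
    have hJg : ∀ g : G, g ∈ normalizer (J : Set G) := fun g => mem_normalizer_fintype fun x hx => by
      have hle : J ≤ J.comap (MulAut.conj g).toMonoidHom := by
        rw [hJdef, thompsonSubgroupAOf_eq]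
        refine sSup_le fun A hA => ?_
        refine map_le_iff_le_comap.1 (le_sSup (maxAbelian_conj hA ?_))
        exact conj_le_iff.2 fun a ha => hTS (hT.conj_mem a (hJ A hA ha) g)
      exact hle hx
    have hY : Y = J ⊓ centralizer (J : Set G) := hS.symm
    rw [hY]
    exact Subgroup.inf_normalizer_le_normalizer_inf
      (mem_inf.2 ⟨hJg g, PLocal.normalizer_le_normalizer_centralizer _ (hJg g)⟩)
  push Not at hJ
  refine ctrl_step hp hc hS le_rfl hsyl hFp (hTmax F hFn hFp) hTS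
    (fun g _ => by rw [Subgroup.normalizer_eq_top_iff.2 hT]; trivial)
    (fun N hN _ hn => hTmax N (normalizer_eq_top_iff.1 (eq_top_iff.2 hn)) hN) hyY hyT hyp hyS hyC
    (fun L' h1 h2 => hc.proper L' h2.ne S hS h1) ?_
  intro V hFV hVT hVn hVc hVgen hout
  right
  obtain ⟨a, haS, haT, hq⟩ := exists_quad_of_not_le hp S.2 (U := T) (hVT.trans hTS)
    (fun g _ => hVn (mem_top g)) (fun A hA => (commutator_le.2 fun a ha b hb => by
      rw [commutatorElement_def]; exact hYA A hA (hFY (hVc a ha b hb))))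
    (fun A hA hAT => hVgen A (hFY.trans (hYA A hA)) fun l _ => by
      have h1 : cj l⁻¹ A ∈ maxIn abelian (S : Subgroup G) := maxAbelian_conj hA
        (conj_le_iff.2 fun x hx => hTS (hT.conj_mem x (hAT hx) l⁻¹))
      have h2 := hYA _ h1 hyY
      rwa [mem_cj, inv_inv] at h2)
    (by obtain ⟨A, hA, hAT⟩ := hJ; exact ⟨A, hA, hAT⟩)
  refine ⟨a, haS, haT, fun v hv => ?_⟩
  rw [(hq v hv).eq, mul_inv_cancel_right, mul_inv_cancel]
  exact one_mem F

/-- A pair `(S, W)`. -/
def Pair (Y T : Subgroup G) [T.Normal] (S : Sylow p G) (W : Subgroup G) : Prop :=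
  Good Y S ∧ T ≤ W ∧ W ≤ (S : Subgroup G) ∧ ∀ S' : Sylow p G, Good Y S' →
    (S : Subgroup G) ⊓ normalizer (W : Set G) ≤ (S' : Subgroup G) →
      ∀ x ∈ Y, (S' : Subgroup G) ≤ cmod T {x} → x ∈ W

/-- Tame steps, given control for the larger pairs. -/
theorem real_tame {Y T : Subgroup G} [T.Normal] (hTS : ∀ Q : Sylow p G, T ≤ (Q : Subgroup G))
    (hTres : Cfsg.pResidual p G ≤ centralizer (T : Set G)) {S : Sylow p G} (hS : Good Y S) {k : ℕ}
    (hpairs : ∀ (S' : Sylow p G) (W : Subgroup G), Pair Y T S' W →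
      k < Nat.card ↥((S' : Subgroup G) ⊓ normalizer (W : Set G) : Subgroup G) →
        Ctrl Y (normalizer (W : Set G)) ((S' : Subgroup G) ⊓ normalizer (W : Set G)))
    (Q : Sylow p G) (ht : TameChain.IsTame S Q) {x : G} (hx : x ∈ TameChain.interNormalizer S Q)
    (hk : k ≤ Nat.card ↥((S : Subgroup G) ⊓ (Q : Subgroup G) : Subgroup G)) :
    Real Y ((S : Subgroup G) ⊓ (Q : Subgroup G)) x := by
  set D := (S : Subgroup G) ⊓ (Q : Subgroup G) with hD
  by_cases hDS : D = (S : Subgroup G)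
  · exact Real.of_mem (hS.normalizer_le (by
      have := hx
      rwa [TameChain.interNormalizer, ← hD, hDS] at this))
  set N := normalizer (D : Set G) with hN
  set RD := (S : Subgroup G) ⊓ N with hRD
  have hlt : D < RD := TameChain.lt_normalizer S.2 (lt_of_le_of_ne inf_le_left hDS)
  have hsylD : Fusion.IsSylowIn p RD N := by
    refine ⟨inf_le_right, S.2.to_le inf_le_left, fun C h1 h2 h3 => ?_⟩
    exact (AlperinFamily.eq_of_sylowish h1 h2 h3 ht.1).symm
  have hTD : T ≤ D := le_inf (hTS S) (hTS Q)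
  set Kst := cmod T (D : Set G) with hKst
  have hKN : Kst ≤ N := fun g hg => le_normalizer_of_le_cmod hTD hg
  have hKn : N ≤ normalizer (Kst : Set G) := le_normalizer_cmod
  set W := RD ⊓ Kst with hW
  have hWS : W ≤ (S : Subgroup G) := inf_le_left.trans inf_le_left
  have hRDW : RD ≤ normalizer (W : Set G) := fun r hr => mem_normalizer_fintype fun z hz => mem_inf.2
    ⟨mul_mem (mul_mem hr (mem_inf.1 hz).1) (inv_mem hr),
      (mem_normalizer_iff.1 (hKn (mem_inf.1 hr).2) z).1 (mem_inf.1 hz).2⟩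
  have hR' : RD ≤ (S : Subgroup G) ⊓ normalizer (W : Set G) := le_inf inf_le_left hRDW
  have hTK : T ≤ Kst := le_cmod_self T _
  have hpair : Pair Y T S W := by
    refine ⟨hS, le_inf (le_inf (hTS S) fun g hg => hKN (hTK hg)) hTK, hWS, fun S' hS' hle z hz hzS => ?_⟩
    have hDS' : D ≤ (S' : Subgroup G) :=
      (le_inf (inf_le_left : D ≤ S) Subgroup.le_normalizer : D ≤ RD).trans (hR'.trans hle)
    have hzK : z ∈ Kst := mem_cmod.2 fun d hd => by
      have h1 := inv_mem (mem_cmod.1 (hzS (hDS' hd)) z rfl)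
      convert h1 using 1; group
    exact mem_inf.2 ⟨mem_inf.2 ⟨hS.le hz, hKN hzK⟩, hzK⟩
  have hcard : k < Nat.card ↥((S : Subgroup G) ⊓ normalizer (W : Set G) : Subgroup G) :=
    hk.trans_lt (lt_of_lt_of_le (lt_of_le_of_ne (Subgroup.card_le_of_le hlt.le) fun he =>
      hlt.ne (Subgroup.eq_of_le_of_card_ge hlt.le he.ge)) (Subgroup.card_le_of_le hR'))
  have hctrl := hpairs S W hpair hcard
  -- Frattini
  have hKnN : (Kst.subgroupOf N).Normal := (normal_subgroupOf_iff_le_normalizer hKN).2 hKn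
  obtain ⟨SR, hSR⟩ := (Fusion.isSylowIn_iff_exists hsylD.1).1 hsylD
  obtain ⟨n, hn, c, hc, hnc⟩ := PReduced.frattini_sylow_inf_mul SR (Kst.subgroupOf N) ⟨x, hx⟩
  have hxnc : x = (n : G) * c := congrArg Subtype.val hnc
  have hnW : (n : G) ∈ normalizer (W : Set G) := mem_normalizer_fintype fun z hz => by
    have h1 := (mem_normalizer_iff.1 hn ⟨z, (mem_inf.1 (mem_inf.1 hz).1).2⟩).1
      (mem_inf.2 ⟨by rw [hSR]; exact (mem_inf.1 hz).1, (mem_inf.1 hz).2⟩)
    exact mem_inf.2 ⟨by have h2 := (mem_inf.1 h1).1; rw [hSR] at h2; exact h2, (mem_inf.1 h1).2⟩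
  have hDR : D ≤ (S : Subgroup G) ⊓ normalizer (W : Set G) :=
    (le_inf inf_le_left Subgroup.le_normalizer : D ≤ RD).trans hR'
  have hn1 : Real Y D (n : G) := hctrl n hnW D hDR (by rw [cj_of_mem n.2]; exact hDR)
  -- the part in the centraliser modulo `T`
  have hcK : (c : G) ∈ Kst := hc
  obtain ⟨SK, hSK⟩ := (Fusion.isSylowIn_iff_exists (inf_le_right : RD ⊓ Kst ≤ Kst)).1
    (hsylD.inf_normal hKN fun a ha m hm => (mem_normalizer_iff.1 (hKn ha) m).1 hm)
  obtain ⟨r, hr, w, hw, hrw⟩ := PReduced.exists_eq_mul_of_pResidual SK (⟨c, hcK⟩ : ↥Kst)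
  have hwW : (w : G) ∈ W := by rw [hSK] at hw; exact hw
  have hrC : (r : G) ∈ centralizer (D : Set G) := by
    have hle : Cfsg.pResidual p ↥Kst ≤ (centralizer (D : Set G)).comap Kst.subtype :=
      (closure_le _).2 fun z hz => by
        refine commute_of_stab (S.2.to_le inf_le_left) hTD (c := (z : G))
          (by rwa [Subgroup.orderOf_coe]) (fun t ht => ?_) (fun d hd => mem_cmod.1 z.2 d hd)
        refine (mem_centralizer_iff.1 (hTres (subset_closure ?_)) t ht).symm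
        show Nat.Coprime (orderOf (z : G)) p
        rw [Subgroup.orderOf_coe]; exact hz
    exact hle hr
  have hwN : (w : G) ∈ normalizer (D : Set G) := hKN w.2
  have hc1 : Real Y D (c : G) := by
    refine (Real.of_mem (hS.le_normalizer (hWS hwW)) : Real Y D (w : G)).congr fun d hd => ?_
    have hcw : (c : G) = (r : G) * w := congrArg Subtype.val hrw
    have h1 : (w : G) * d * (w : G)⁻¹ ∈ D := (mem_normalizer_iff.1 hwN d).1 hd
    rw [hcw, show (r : G) * w * d * ((r : G) * w)⁻¹ = (r : G) * ((w : G) * d * (w : G)⁻¹) * (r : G)⁻¹ by group,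
      ← mem_centralizer_iff.1 hrC _ h1, mul_inv_cancel_right]
  rw [hxnc]
  exact hc1.mul (by rw [cj_of_mem c.2]; exact hn1)

/-- Conjugations of subgroups of order at least `k`. -/
theorem real_chain {Y T : Subgroup G} [T.Normal] (hTS : ∀ Q : Sylow p G, T ≤ (Q : Subgroup G))
    (hTres : Cfsg.pResidual p G ≤ centralizer (T : Set G)) {S : Sylow p G} (hS : Good Y S) {k : ℕ}
    (hpairs : ∀ (S' : Sylow p G) (W : Subgroup G), Pair Y T S' W →
      k < Nat.card ↥((S' : Subgroup G) ⊓ normalizer (W : Set G) : Subgroup G) →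
        Ctrl Y (normalizer (W : Set G)) ((S' : Subgroup G) ⊓ normalizer (W : Set G)))
    {A : Subgroup G} (hA : A ≤ (S : Subgroup G)) (hk : k ≤ Nat.card A) {g : G}
    (hg : cj g A ≤ (S : Subgroup G)) : Real Y A g := by
  have hch := TameChain.exists_chain S (A := (A : Set G)) (g := g⁻¹) (SetLike.coe_subset_coe.2 hA) (by
    rintro _ ⟨a, ha, rfl⟩
    show g⁻¹⁻¹ * a * g⁻¹ ∈ (S : Subgroup G)
    rw [inv_inv]
    exact hg (conj_mem_cj ha))
  suffices H : ∀ (B : Set G) (g : G), TameChain.Chain S B g → k ≤ B.ncard →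
      ∃ n ∈ normalizer (Y : Set G), ∀ b ∈ B, n * b * n⁻¹ = g⁻¹ * b * g by
    obtain ⟨n, hn, hn'⟩ := H _ _ hch (by rwa [← Nat.card_coe_set_eq])
    exact ⟨n, hn, fun a ha => by rw [hn' a ha, inv_inv]⟩
  intro B g hB hkB
  induction hB with
  | nil B => exact ⟨1, one_mem _, fun b _ => by simp⟩
  | cons B Q x g hx ht hBD _ ih =>
    have hkD : k ≤ Nat.card ↥((S : Subgroup G) ⊓ (Q : Subgroup G) : Subgroup G) := by
      refine hkB.trans ?_
      exact (Set.ncard_le_ncard hBD (Set.toFinite _)).trans_eq (Nat.card_coe_set_eq _).symm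
    obtain ⟨m, hm, hm'⟩ := real_tame hTS hTres hS hpairs Q ht (inv_mem hx) hkD
    obtain ⟨n, hn, hn'⟩ := ih (by
      rw [TameChain.conjSet, Set.ncard_image_of_injective _ fun a b hab => by simpa using hab]
      exact hkB)
    refine ⟨n * m, mul_mem hn hm, fun b hb => ?_⟩
    calc n * m * b * (n * m)⁻¹ = n * (m * b * m⁻¹) * n⁻¹ := by group
      _ = n * (x⁻¹ * b * x) * n⁻¹ := by rw [hm' b (hBD hb), inv_inv]
      _ = (x * g)⁻¹ * b * (x * g) := by rw [hn' _ ⟨b, hb, rfl⟩]; group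

/-- A pair whose normaliser has `R` as a Sylow subgroup. -/
theorem ctrl_pair_sylow (hp : p ≠ 2) {Y T : Subgroup G} [T.Normal] (hc : Ctx p Y) (hTp : IsPGroup p ↥T)
    (hTmax : ∀ N : Subgroup G, N.Normal → IsPGroup p ↥N → N ≤ T) (hYT : ¬ Y ≤ T)
    (hyC : ∀ S : Sylow p G, ∀ y : G, Good Y S → y ∈ Y → y ∉ T → (S : Subgroup G) ≤ cmod T {y} → y ^ p ∈ T →
      cmod T {y} ≠ ⊤)
    {S : Sylow p G} {W : Subgroup G} (hpair : Pair Y T S W)
    (hbig : ∀ (S' : Sylow p G) (W' : Subgroup G), Pair Y T S' W' →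
      Nat.card ↥((S : Subgroup G) ⊓ normalizer (W : Set G) : Subgroup G) <
        Nat.card ↥((S' : Subgroup G) ⊓ normalizer (W' : Set G) : Subgroup G) →
        Ctrl Y (normalizer (W' : Set G)) ((S' : Subgroup G) ⊓ normalizer (W' : Set G)))
    (hsyl : Fusion.IsSylowIn p ((S : Subgroup G) ⊓ normalizer (W : Set G)) (normalizer (W : Set G))) :
    Ctrl Y (normalizer (W : Set G)) ((S : Subgroup G) ⊓ normalizer (W : Set G)) := by
  obtain ⟨hS, hTW, hWS, hcond⟩ := hpair
  set R := (S : Subgroup G) ⊓ normalizer (W : Set G) with hR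
  have hWR : W ≤ R := le_inf hWS Subgroup.le_normalizer
  obtain ⟨y, hyY, hyT, hyp, hyS⟩ := exists_central_mod T S.2 hS.le (fun g hg =>
    mem_normalizer_fintype fun z hz => (mem_normalizer_iff.1 (hS.le_normalizer hg) z).1 hz) hYT
  have hyW : y ∈ W := hcond S hS inf_le_left y hyY hyS
  suffices H : ∀ L' : Subgroup G, R ≤ L' → L' ≤ normalizer (W : Set G) → Ctrl Y L' R from
    H _ inf_le_right le_rfl
  intro L'
  induction L' using (wellFounded_lt (α := Subgroup G)).induction with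
  | _ L ih =>
  intro hRL hLN
  have hsylL : Fusion.IsSylowIn p R L := hsyl.mono hRL hLN
  set U := (Cfsg.pCore p ↥L).map L.subtype with hU
  have hUn : L ≤ normalizer (U : Set G) := fun g hg => mem_normalizer_fintype fun z hz => by
    obtain ⟨z, hz', rfl⟩ := hz
    exact ⟨⟨g, hg⟩ * z * ⟨g, hg⟩⁻¹, (PReduced.pCore_normal p ↥L).conj_mem z hz' _, rfl⟩
  have hUmax : ∀ N : Subgroup G, IsPGroup p ↥N → N ≤ L → L ≤ normalizer (N : Set G) → N ≤ U := by
    intro N hN hNL hn z hz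
    exact ⟨⟨z, hNL hz⟩, PReduced.le_pCore ((normal_subgroupOf_iff_le_normalizer hNL).2 hn)
      ((Fusion.isPGroup_subgroupOf hNL).2 hN) hz, rfl⟩
  have hUp : IsPGroup p ↥U := (PReduced.isPGroup_pCore (G := ↥L) p).map _
  have hUR : U ≤ R := le_of_normal_pgroup hsylL hUp (map_subtype_le _) hUn
  have hWU : W ≤ U := hUmax W (S.2.to_le hWS) (hWR.trans hRL) hLN
  refine ctrl_step hp hc hS inf_le_left hsylL hTp (hTW.trans hWU) hUR hUn hUmax hyY (hWU hyW) hyp hyS
    (hyC S y hS hyY hyT hyS hyp) (fun L' h1 h2 => ih L' h2 h1 (h2.le.trans hLN)) ?_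
  intro V hFV hVU hVn hVc hVgen hout
  set π := QuotientGroup.mk' T with hπ
  have hkerp : IsPGroup p ↥π.ker := by rw [QuotientGroup.ker_mk']; exact hTp
  have hpre : ∀ Q : Subgroup G, T ≤ Q → (Q.map π).comap π = Q := fun Q hQ => by
    rw [comap_map_eq, QuotientGroup.ker_mk', sup_eq_left.2 hQ]
  have hTR : T ≤ R := hTW.trans hWR
  set Rb := R.map π with hRb
  set Ub := U.map π with hUb
  have hUbR : Ub ≤ Rb := map_mono hUR
  have hyc : ∀ x ∈ Y, x ∈ R → R ≤ cmod T {x} → ∀ A ∈ maxIn abelian Rb, π x ∈ A := by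
    intro x _ hxR hRx A hA
    refine mem_of_centralizes_abelian hA (mem_map_of_mem π hxR) (mem_centralizer_iff.2 fun z hz => ?_)
    obtain ⟨r, hr, rfl⟩ := hA.1 hz
    have h1 := (QuotientGroup.eq_one_iff _).2 (mem_cmod.1 (hRx hr) x rfl)
    change π (r * x * r⁻¹ * x⁻¹) = 1 at h1
    simp only [map_mul, map_inv] at h1
    rwa [mul_inv_eq_one, mul_inv_eq_iff_eq_mul] at h1
  have hyA : ∀ A ∈ maxIn abelian Rb, π y ∈ A := hyc y hyY (hWR hyW) (inf_le_left.trans hyS)
  by_cases hJ : ∀ A ∈ maxIn abelian Rb, A ≤ Ub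
  · left
    set Jb := Cfsg.thompsonSubgroupAOf Rb with hJb
    set W₂ := Jb.comap π with hW₂
    have hTW₂ : T ≤ W₂ := fun z hz => by
      show π z ∈ Jb
      rw [show π z = 1 from (QuotientGroup.eq_one_iff z).2 hz]; exact one_mem _
    have hW₂R : W₂ ≤ R := (comap_mono (thompsonSubgroupAOf_le _)).trans (hpre R hTR).le
    have hnorm : ∀ g : G, π g ∈ normalizer (Jb : Set (G ⧸ T)) → g ∈ normalizer (W₂ : Set G) := fun g hg =>
      mem_normalizer_fintype fun z hz => by
        show π (g * z * g⁻¹) ∈ Jb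
        rw [map_mul, map_mul, map_inv]
        exact (mem_normalizer_iff.1 hg _).1 hz
    have hLW₂ : L ≤ normalizer (W₂ : Set G) := fun g hg => hnorm g <| mem_normalizer_fintype fun z hz => by
      have hle : Jb ≤ Jb.comap (MulAut.conj (π g)).toMonoidHom := by
        rw [hJb, thompsonSubgroupAOf_eq]
        refine sSup_le fun A hA => map_le_iff_le_comap.1 (le_sSup (maxAbelian_conj hA ?_))
        refine conj_le_iff.2 fun a ha => hUbR ?_
        obtain ⟨b, hb, rfl⟩ := hJ A hA ha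
        exact ⟨g * b * g⁻¹, (mem_normalizer_iff.1 (hUn hg) b).1 hb, by simp⟩
      exact hle hz
    by_cases hRS : R = (S : Subgroup G)
    · have hne : normalizer (W₂ : Set G) ≠ ⊤ := fun h => by
        have h1 : W₂ ≤ T := hTmax W₂ (normalizer_eq_top_iff.1 h) (S.2.to_le (hW₂R.trans inf_le_left))
        obtain ⟨A, hA⟩ := exists_maxIn (Q := abelian) abelian_bot Rb
        refine hyT (h1 ?_)
        show π y ∈ Jb
        rw [hJb, thompsonSubgroupAOf_eq]
        exact le_sSup hA (hyA A hA)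
      refine (hc.proper _ hne S hS ?_).mono hLW₂ inf_le_left
      rw [← hRS]; exact hRL.trans hLW₂
    · have hlt : R < (S : Subgroup G) ⊓ normalizer (W₂ : Set G) := by
        have h1 := TameChain.lt_normalizer S.2 (lt_of_le_of_ne (inf_le_left : R ≤ S) hRS)
        refine h1.trans_le (le_inf inf_le_left fun g hg => hnorm g ?_)
        exact normalizer_le_normalizer_thompsonSubgroupAOf Rb
          (le_normalizer_map π (mem_map_of_mem π (mem_inf.1 hg).2))
      have hpair₂ : Pair Y T S W₂ := by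
        refine ⟨hS, hTW₂, hW₂R.trans inf_le_left, fun S' hS' hle x hx hxS => ?_⟩
        have hRS' : R ≤ (S' : Subgroup G) := hlt.le.trans hle
        have hxW : x ∈ W := hcond S' hS' hRS' x hx hxS
        obtain ⟨A, hA⟩ := exists_maxIn (Q := abelian) abelian_bot Rb
        show π x ∈ Jb
        rw [hJb, thompsonSubgroupAOf_eq]
        exact le_sSup hA (hyc x hx (hWR hxW) (hRS'.trans hxS) A hA)
      exact (hbig S W₂ hpair₂ (lt_of_le_of_ne (Subgroup.card_le_of_le hlt.le) fun he =>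
        hlt.ne (Subgroup.eq_of_le_of_card_ge hlt.le he.ge))).mono hLW₂ hlt.le
  right
  push Not at hJ
  have hRp : IsPGroup p ↥R := S.2.to_le inf_le_left
  obtain ⟨a, haR, haU, hq⟩ := exists_quad_of_not_le hp (hRp.map π) (U := Ub)
    (map_mono (hVU.trans hUR)) ((map_mono ((hRL).trans hVn)).trans (le_normalizer_map π))
    (fun A _ => commutator_le.2 (by
      rintro _ ⟨v, hv, rfl⟩ _ ⟨v', hv', rfl⟩
      rw [← map_commutatorElement, show π ⁅v, v'⁆ = 1 from (QuotientGroup.eq_one_iff _).2 (by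
        rw [commutatorElement_def]; exact hVc v hv v' hv')]
      exact one_mem A))
    (fun A hA hAU => map_le_iff_le_comap.2 (hVgen _ (fun z hz => by
      show π z ∈ A
      rw [show π z = 1 from (QuotientGroup.eq_one_iff z).2 hz]; exact one_mem _) fun l hl => by
        have h1 : cj (π l)⁻¹ A ∈ maxIn abelian Rb := maxAbelian_conj hA (conj_le_iff.2 fun z hz => hUbR (by
          obtain ⟨b, hb, rfl⟩ := hAU hz
          exact ⟨l⁻¹ * b * l⁻¹⁻¹, (mem_normalizer_iff.1 (hUn (inv_mem hl)) b).1 hb, by simp⟩))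
        have h2 := hyA _ h1
        rw [mem_cj, inv_inv] at h2
        show π (l * y * l⁻¹) ∈ A
        rwa [map_mul, map_mul, map_inv]))
    (by obtain ⟨A, hA, hAU⟩ := hJ; exact ⟨A, hA, hAU⟩)
  obtain ⟨a, ha, rfl⟩ := haR
  refine ⟨a, ha, fun h => haU (mem_map_of_mem π h), fun v hv => ?_⟩
  have h1 := (hq _ (mem_map_of_mem π hv)).eq
  refine (QuotientGroup.eq_one_iff _).1 ?_
  show π (a * (a * v * a⁻¹ * v⁻¹) * a⁻¹ * (a * v * a⁻¹ * v⁻¹)⁻¹) = 1
  simp only [map_mul, map_inv]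
  rw [h1, mul_inv_cancel_right, mul_inv_cancel]

/-- The case `G = C(O_p(G)) S`. -/
theorem caseII (hp : p ≠ 2) {Y T : Subgroup G} [T.Normal] (hc : Ctx p Y) (hTp : IsPGroup p ↥T)
    (hTmax : ∀ N : Subgroup G, N.Normal → IsPGroup p ↥N → N ≤ T)
    (hTres : Cfsg.pResidual p G ≤ centralizer (T : Set G)) (hYT : ¬ Y ≤ T) {S₀ : Sylow p G}
    (hS₀ : Good Y S₀) : Ctrl Y ⊤ (S₀ : Subgroup G) := by
  have hTS : ∀ Q : Sylow p G, T ≤ (Q : Subgroup G) := fun Q =>
    (PReduced.le_pCore inferInstance hTp).trans (PReduced.pCore_le_sylow Q)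
  have hyC : ∀ S : Sylow p G, ∀ y : G, Good Y S → y ∈ Y → y ∉ T → (S : Subgroup G) ≤ cmod T {y} →
      y ^ p ∈ T → cmod T {y} ≠ ⊤ := by
    intro S y hS hy hyT _ _ htop
    set P := zpowers y ⊔ T with hP
    have hn : P.Normal := ⟨fun z hz g => by
      have hle : P ≤ P.comap (MulAut.conj g).toMonoidHom := by
        refine sup_le (zpowers_le.2 ?_) fun w hw => mem_sup_right (Normal.conj_mem ‹T.Normal› w hw g)
        show g * y * g⁻¹ ∈ P
        have h1 := mem_cmod.1 (htop.ge (mem_top g)) y rfl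
        have := mul_mem (mem_sup_right h1 : g * y * g⁻¹ * y⁻¹ ∈ P) (mem_sup_left (mem_zpowers y))
        rwa [inv_mul_cancel_right] at this
      exact hle hz⟩
    exact hyT (hTmax P hn (S.2.to_le (sup_le (zpowers_le.2 (hS.le hy)) (hTS S)))
      (mem_sup_left (mem_zpowers y)))
  have hall : ∀ (S : Sylow p G) (W : Subgroup G), Pair Y T S W →
      Ctrl Y (normalizer (W : Set G)) ((S : Subgroup G) ⊓ normalizer (W : Set G)) := by
    suffices H : ∀ j, ∀ (S : Sylow p G) (W : Subgroup G), Pair Y T S W →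
        Nat.card (S₀ : Subgroup G) - Nat.card ↥((S : Subgroup G) ⊓ normalizer (W : Set G) : Subgroup G) ≤ j →
        Ctrl Y (normalizer (W : Set G)) ((S : Subgroup G) ⊓ normalizer (W : Set G)) from
      fun S W h => H _ S W h le_rfl
    intro j
    induction j using Nat.strong_induction_on with
    | _ j ih =>
    intro S W hpair hj
    set R := (S : Subgroup G) ⊓ normalizer (W : Set G) with hR
    have hle : ∀ (S' : Sylow p G) (W' : Subgroup G),
        Nat.card ↥((S' : Subgroup G) ⊓ normalizer (W' : Set G) : Subgroup G) ≤ Nat.card (S₀ : Subgroup G) :=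
      fun S' W' => (Subgroup.card_le_of_le inf_le_left).trans (Nat.card_congr (Sylow.equiv S' S₀).toEquiv).le
    have hbig : ∀ (S' : Sylow p G) (W' : Subgroup G), Pair Y T S' W' →
        Nat.card R < Nat.card ↥((S' : Subgroup G) ⊓ normalizer (W' : Set G) : Subgroup G) →
        Ctrl Y (normalizer (W' : Set G)) ((S' : Subgroup G) ⊓ normalizer (W' : Set G)) :=
      fun S' W' h' hlt => ih _ (by have := hle S' W'; omega) S' W' h' le_rfl
    by_cases hsyl : Fusion.IsSylowIn p R (normalizer (W : Set G))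
    · exact ctrl_pair_sylow hp hc hTp hTmax hYT hyC hpair hbig hsyl
    obtain ⟨B, hRB, hB⟩ := Fusion.exists_isSylowIn_ge (S.2.to_le (inf_le_left : R ≤ S)) inf_le_right
    have hBR : R < B := lt_of_le_of_ne hRB fun h => hsyl (h ▸ hB)
    obtain ⟨P, hP⟩ := hB.2.1.exists_le_sylow
    obtain ⟨h, hh⟩ := MulAction.exists_smul_eq G P S
    have hhB : cj h B ≤ (S : Subgroup G) := (cj_mono h hP).trans (congrArg Sylow.toSubgroup hh).le
    obtain ⟨n, hn, hn'⟩ := real_chain hTS hTres hpair.1 hbig (inf_le_left : R ≤ S) le_rfl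
      ((cj_mono h hRB).trans hhB)
    set c := n⁻¹ * h with hc'
    have hcR : ∀ r ∈ R, c * r * c⁻¹ = r := fun r hr => by
      rw [hc', show n⁻¹ * h * r * (n⁻¹ * h)⁻¹ = n⁻¹ * (h * r * h⁻¹) * n by group, ← hn' r hr]; group
    have hcW : c ∈ normalizer (W : Set G) := mem_normalizer_fintype fun z hz => by
      show c * z * c⁻¹ ∈ W
      rw [hcR z (le_inf hpair.2.2.1 Subgroup.le_normalizer hz)]; exact hz
    obtain ⟨S', hS'⟩ := exists_conj_sylow S n⁻¹
    have hgood : Good Y S' := hpair.1.conj (inv_mem hn) hS'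
    have hcB : cj c B ≤ (S' : Subgroup G) ⊓ normalizer (W : Set G) := by
      refine le_inf ?_ (cj_le_of_mem hB.1 hcW)
      rw [hS', hc', cj_mul]; exact cj_mono _ hhB
    have hR' : R ≤ (S' : Subgroup G) ⊓ normalizer (W : Set G) := fun r hr => by
      have := hcB (conj_mem_cj (g := c) (hRB hr))
      rwa [hcR r hr] at this
    have hWS' : W ≤ (S' : Subgroup G) :=
      (le_inf hpair.2.2.1 Subgroup.le_normalizer).trans (hR'.trans inf_le_left)
    have hpair' : Pair Y T S' W :=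
      ⟨hgood, hpair.2.1, hWS', fun S'' hS'' hle' => hpair.2.2.2 S'' hS'' (hR'.trans hle')⟩
    have hcard : Nat.card R < Nat.card ↥((S' : Subgroup G) ⊓ normalizer (W : Set G) : Subgroup G) := by
      refine lt_of_lt_of_le (lt_of_le_of_ne (Subgroup.card_le_of_le hRB) fun he =>
        hBR.ne (Subgroup.eq_of_le_of_card_ge hRB he.ge)) ?_
      calc Nat.card B = Nat.card ↥(cj c B) :=
            (Subgroup.card_map_of_injective (MulAut.conj c).injective).symm
        _ ≤ _ := Subgroup.card_le_of_le hcB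
    exact (hbig S' W hpair' hcard).mono le_rfl hR'
  intro g _ A hA hgA
  exact real_chain hTS hTres hS₀ (k := 0) (fun S W h _ => hall S W h) hA (Nat.zero_le _) hgA

/-- Control in `G`. -/
theorem ctrl_top (hp : p ≠ 2) {Y : Subgroup G} (hc : Ctx p Y) {S : Sylow p G} (hS : Good Y S) :
    Ctrl Y ⊤ (S : Subgroup G) := by
  by_cases hYn : Y.Normal
  · exact ctrl_of_le _ fun g _ => by rw [normalizer_eq_top_iff.2 hYn]; trivial
  set T := Cfsg.pCore p G with hT
  haveI hTn : T.Normal := PReduced.pCore_normal p G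
  have hTp : IsPGroup p ↥T := PReduced.isPGroup_pCore p
  have hTmax : ∀ N : Subgroup G, N.Normal → IsPGroup p ↥N → N ≤ T := fun N h1 h2 => PReduced.le_pCore h1 h2
  have hTS : T ≤ (S : Subgroup G) := PReduced.pCore_le_sylow S
  set F := (Y ⊓ centralizer ((Cfsg.pResidual p G : Subgroup G) : Set G)).normalCore with hFdef
  haveI hFn : F.Normal := normalCore_normal _
  have hFY : F ≤ Y := (normalCore_le _).trans inf_le_left
  have hFcent : ∀ c : G, (orderOf c).Coprime p → ∀ f ∈ F, c * f = f * c := fun c hcc f hf =>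
    mem_centralizer_iff.1 ((normalCore_le _ hf).2) c (subset_closure hcc)
  have hFp : IsPGroup p ↥F := hc.Yp.to_le hFY
  have hFT : F ≤ T := hTmax F hFn hFp
  have hSY : (S : Subgroup G) ≤ normalizer (Y : Set G) := hS.le_normalizer
  obtain ⟨y, hyY, hyF, hyp, hyS⟩ := exists_central_mod F S.2 hS.le hSY fun h =>
    hYn (le_antisymm hFY h ▸ hFn)
  have hyC : cmod F {y} ≠ ⊤ := by
    intro htop
    set P := zpowers y ⊔ F with hP
    have hPY : P ≤ Y := sup_le (zpowers_le.2 hyY) hFY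
    have hPC : P ≤ cmod F ((⊤ : Subgroup G) : Set G) := sup_le (zpowers_le.2 (mem_cmod.2 fun g _ => by
      have h1 := inv_mem (mem_cmod.1 (htop.ge (mem_top g)) y rfl)
      convert h1 using 1; group)) (le_cmod_self F _)
    have hn : P.Normal := ⟨fun z hz g => by
      have h1 := mem_cmod.1 (hPC hz) g (mem_top g)
      have h2 : g * z * g⁻¹ = (z * g * z⁻¹ * g⁻¹)⁻¹ * z := by group
      rw [h2]
      exact mul_mem (inv_mem (mem_sup_right h1)) hz⟩
    have hPcent : P ≤ centralizer ((Cfsg.pResidual p G : Subgroup G) : Set G) :=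
      PLocal.le_centralizer_comm ((closure_le _).2 fun c hcc =>
        commute_of_stab (hc.Yp.to_le hPY) le_sup_right hcc (hFcent c hcc) fun z hz => by
          have h1 := inv_mem (mem_cmod.1 (hPC hz) c (mem_top c))
          convert h1 using 1; group)
    haveI := hn
    exact hyF (Subgroup.normal_le_normalCore.2 (le_inf hPY hPcent) (mem_sup_left (mem_zpowers y)))
  set K := cmod F (T : Set G) with hK
  have hKn : K.Normal := normalizer_eq_top_iff.1 (eq_top_iff.2
    ((normalizer_eq_top_iff.2 hTn).ge.trans le_normalizer_cmod))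
  have hyK : y ∈ K := mem_cmod.2 fun t ht => by
    have h1 := inv_mem (mem_cmod.1 (hyS (hTS ht)) y rfl)
    convert h1 using 1; group
  have hsyl : Fusion.IsSylowIn p (S : Subgroup G) ⊤ := ⟨le_top, S.2, fun C h1 _ h3 => S.3 h3 h1⟩
  by_cases hKS : K ⊔ (S : Subgroup G) = ⊤
  · -- the elements of order prime to `p` centralise `T`
    have hres : Cfsg.pResidual p G ≤ K := by
      refine (closure_le _).2 fun c hcc => ?_
      have hcK : c ∈ ((K ⊔ (S : Subgroup G) : Subgroup G) : Set G) := by rw [hKS]; trivial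
      rw [normal_mul] at hcK
      obtain ⟨k, hk, s, hs, rfl⟩ := Set.mem_mul.1 hcK
      refine mul_mem hk ?_
      obtain ⟨i, hi⟩ := S.2 ⟨s, hs⟩
      have hi' : s ^ p ^ i = 1 := congrArg Subtype.val hi
      have h1 : (k * s) ^ p ^ i ∈ K := by
        rw [← QuotientGroup.eq_one_iff, QuotientGroup.mk_pow, QuotientGroup.mk_mul,
          (QuotientGroup.eq_one_iff k).2 hk, one_mul, ← QuotientGroup.mk_pow, hi', QuotientGroup.mk_one]
      have h2 := Coprime.mem_of_pow_mem ((hcc : (orderOf (k * s)).Coprime p).pow_right i) h1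
      have := mul_mem (inv_mem hk) h2
      rwa [inv_mul_cancel_left] at this
    have hTres : Cfsg.pResidual p G ≤ centralizer (T : Set G) := (closure_le _).2 fun c hcc =>
      commute_of_stab hTp hFT hcc (hFcent c hcc) fun t ht => mem_cmod.1 (hres (subset_closure hcc)) t ht
    refine caseII hp hc hTp hTmax hTres (fun hYT => hYn ?_) hS
    refine normalizer_eq_top_iff.1 (eq_top_iff.2 ?_)
    rw [← PReduced.pResidual_sup_sylow S]
    refine sup_le (fun c hcc => mem_normalizer_fintype fun z hz => ?_) hSY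
    show c * z * c⁻¹ ∈ Y
    rw [← mem_centralizer_iff.1 (hTres hcc) z (hYT hz), mul_inv_cancel_right]; exact hz
  · have hSK : (S : Subgroup G) ≤ normalizer (((S : Subgroup G) ⊓ K : Subgroup G) : Set G) := fun r hr =>
      mem_normalizer_fintype fun x hx => mem_inf.2
        ⟨mul_mem (mul_mem hr (mem_inf.1 hx).1) (inv_mem hr), hKn.conj_mem x (mem_inf.1 hx).2 r⟩
    by_cases hnorm : normalizer (((S : Subgroup G) ⊓ K : Subgroup G) : Set G) = ⊤
    · exact caseI hp hc hS hFY hTn hTp hTmax hyY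
        (hTmax _ (normalizer_eq_top_iff.1 hnorm) S.2.to_inf_left (mem_inf.2 ⟨hS.le hyY, hyK⟩)) hyp hyS hyC
    · exact ctrl_composite hsyl le_top (fun g _ => by rw [normalizer_eq_top_iff.2 hKn]; trivial)
        (hc.proper _ hKS S hS le_sup_right)
        ((hc.proper _ hnorm S hS hSK).mono inf_le_right le_rfl)

end Cfsg.Agent.ZJFusion
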