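/-
The induction: failure of control gives the conclusion.

* `concl_lift` : the conclusion passes from a subgroup to the group;
* `ctrl_of_noConcl`, `main`.
-/
import Cfsg.Agent.Lib.ZJFusion.Local

set_option autoImplicit false

namespace Cfsg.Agent.ZJFusion

open Subgroup Cfsg.Agent Cfsg.Agent.WeaklyClosed

universe u

variable {p : ℕ}

theorem relIndex_centralizer_le {G : Type u} [Group G] [Finite G] [Fact p.Prime] (N C : Subgroup G)
    (hC : Nat.card C = p) :
    (N ⊓ centralizer (C : Set G)).relIndex (N ⊓ normalizer (C : Set G)) ≤ p - 1 := by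
  set K₁ := N ⊓ normalizer (C : Set G)
  let ψ : ↥K₁ →* MulAut ↥C := C.normalizerMonoidHom.comp (Subgroup.inclusion inf_le_right)
  have hker : ψ.ker = (N ⊓ centralizer (C : Set G)).subgroupOf K₁ := by
    ext g
    rw [MonoidHom.mem_ker, mem_subgroupOf, mem_inf, mem_centralizer_iff]
    constructor
    · intro h
      refine ⟨(mem_inf.1 g.2).1, fun x hx => ?_⟩
      have h1 : ((ψ g ⟨x, hx⟩ : ↥C) : G) = g * x * (g : G)⁻¹ := rfl
      rw [h, MulAut.one_apply] at h1
      exact (mul_inv_eq_iff_eq_mul.1 h1.symm).symm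
    · intro h
      refine MulEquiv.ext fun x => Subtype.ext ?_
      show (g : G) * x * (g : G)⁻¹ = x
      rw [← h.2 x x.2, mul_inv_cancel_right]
  haveI : IsCyclic ↥C := isCyclic_of_prime_card hC
  haveI : Finite (MulAut ↥C) := Finite.of_injective _ DFunLike.coe_injective
  rw [relIndex, ← hker, index_ker]
  refine (Subgroup.card_le_card_group ψ.range).trans ?_
  rw [IsCyclic.card_mulAut, hC, Nat.totient_prime Fact.out]

theorem concl_lift {G : Type u} [Group G] [Finite G] [Fact p.Prime] {Y M : Subgroup G} (hYM : Y ≤ M)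
    (h : Concl p (Y.subgroupOf M)) : Concl p Y := by
  obtain ⟨hinv, C, hCY, hCp, hidx⟩ := h
  have hN : (normalizer ((Y.subgroupOf M : Subgroup ↥M) : Set ↥M)).map M.subtype ≤
      normalizer (Y : Set G) := by
    refine (le_normalizer_map M.subtype).trans ?_
    rw [map_subgroupOf_eq_of_le hYM]
  have hfin : Nat.card ↥(C.map M.subtype) = Nat.card ↥C := Subgroup.card_map_of_injective M.subtype_injective
  refine ⟨?_, C.map M.subtype, (map_mono hCY).trans (map_subgroupOf_eq_of_le hYM).le, hfin.trans hCp, ?_⟩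
  · let e := (normalizer ((Y.subgroupOf M : Subgroup ↥M) : Set ↥M)).equivMapOfInjective M.subtype
      M.subtype_injective
    have h1 : Cfsg.Involves ↥(Cfsg.fOver (ZMod p))
        ↥((normalizer ((Y.subgroupOf M : Subgroup ↥M) : Set ↥M)).map M.subtype) :=
      Involves.involves_of_surjective e.symm.toMonoidHom e.symm.surjective hinv
    exact Involves.involves_of_subgroup
      (Involves.involves_of_surjective (subgroupOfEquivOfLe hN).toMonoidHom
        (subgroupOfEquivOfLe hN).surjective h1)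
  · set C' := C.map M.subtype
    set N' := normalizer ((Y.subgroupOf M : Subgroup ↥M) : Set ↥M)
    refine le_antisymm (relIndex_centralizer_le _ _ (hfin.trans hCp)) ?_
    rw [← hidx, ← Subgroup.relIndex_map_map_of_injective _ _ M.subtype_injective]
    set K₁ := (N' ⊓ normalizer (C : Set ↥M)).map M.subtype with hK₁
    have hle : K₁ ≤ normalizer (Y : Set G) ⊓ normalizer (C' : Set G) :=
      (map_inf_le _ _ _).trans (inf_le_inf hN (le_normalizer_map _))
    calc ((N' ⊓ centralizer (C : Set ↥M)).map M.subtype).relIndex K₁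
        = (normalizer (Y : Set G) ⊓ centralizer (C' : Set G)).relIndex K₁ := by
          rw [← inf_relIndex_right (normalizer (Y : Set G) ⊓ centralizer (C' : Set G)),
            ← inf_relIndex_right ((N' ⊓ centralizer (C : Set ↥M)).map M.subtype)]
          congr 1
          ext x
          simp only [mem_inf]
          constructor
          · rintro ⟨⟨x, hx, rfl⟩, hxK⟩
            refine ⟨⟨hN (mem_map_of_mem _ hx.1), mem_centralizer_iff.2 ?_⟩, hxK⟩
            rintro _ ⟨c, hc, rfl⟩
            exact congrArg Subtype.val (mem_centralizer_iff.1 hx.2 c hc)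
          · rintro ⟨⟨-, hxC⟩, hxK⟩
            obtain ⟨x, hx, rfl⟩ := hxK
            refine ⟨⟨x, ⟨hx.1, mem_centralizer_iff.2 fun c hc => Subtype.ext ?_⟩, rfl⟩, ⟨x, hx, rfl⟩⟩
            exact mem_centralizer_iff.1 hxC c ⟨c, hc, rfl⟩
      _ ≤ _ := relIndex_le_of_le_right hle Subgroup.index_ne_zero_of_finite

/-- Without the conclusion, `N(Y)` controls strong fusion. -/
theorem ctrl_of_noConcl [Fact p.Prime] (hp : p ≠ 2) : ∀ (m : ℕ) (G : Type u) [Group G] [Finite G],
    Nat.card G = m → ∀ (S : Sylow p G) (Y : Subgroup G), Good Y S → ¬ Concl p Y →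
      Ctrl Y ⊤ (S : Subgroup G) := by
  intro m
  induction m using Nat.strong_induction_on with
  | _ m ih =>
  intro G _ _ hm S Y hS hno
  refine ctrl_top hp ⟨hno, fun a ha b hb => ?_, S.2.to_le hS.le, ?_⟩ hS
  · rw [← hS] at ha hb
    exact (mem_centralizer_iff.1 ha.2 b hb.1).symm
  intro M hM S hS hSM g hg A hA hgA
  obtain ⟨S', hS'⟩ : ∃ S' : Sylow p ↥M, (S' : Subgroup ↥M).map M.subtype = (S : Subgroup G) :=
    ⟨S.subtype hSM, by rw [Sylow.coe_subtype, map_subgroupOf_eq_of_le hSM]⟩
  have hYM : Y ≤ M := hS.le.trans hSM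
  have hgood : Good (Y.subgroupOf M) S' := by
    refine map_injective M.subtype_injective ?_
    rw [PLocal.map_centerThompsonAOf _ M.subtype_injective.injOn, hS', map_subgroupOf_eq_of_le hYM]
    exact hS
  have hlt : Nat.card ↥M < m := hm ▸ lt_of_le_of_ne (Subgroup.card_le_card_group M) fun h =>
    hM (Subgroup.card_eq_iff_eq_top M |>.1 h)
  have hctrl := ih _ hlt ↥M rfl S' _ hgood fun h => hno (concl_lift hYM h)
  obtain ⟨n, hn, hn'⟩ := hctrl ⟨g, hg⟩ (mem_top _) (A.subgroupOf M) (fun x hx => by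
      have h1 : (x : G) ∈ (S : Subgroup G) := hA hx
      rw [← hS'] at h1
      obtain ⟨y, hy, hyx⟩ := h1
      exact (Subtype.ext hyx : y = x) ▸ hy)
    (conj_le_iff.2 fun x hx => by
      have h1 : g * (x : G) * g⁻¹ ∈ (S : Subgroup G) := hgA (conj_mem_cj hx)
      rw [← hS'] at h1
      obtain ⟨y, hy, hyx⟩ := h1
      exact (Subtype.ext hyx : y = ⟨g, hg⟩ * x * ⟨g, hg⟩⁻¹) ▸ hy)
  have hN : (n : G) ∈ normalizer (Y : Set G) := mem_normalizer_fintype fun z hz => by
    exact (mem_normalizer_iff.1 hn ⟨z, hYM hz⟩).1 hz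
  exact ⟨n, hN, fun a ha => congrArg Subtype.val (hn' ⟨a, hSM (hA ha)⟩ ha)⟩

/-- The main theorem. -/
theorem main {G : Type u} [Group G] [Finite G] [Fact p.Prime] (hp : p ≠ 2) (S : Sylow p G)
    (h : ¬ Cfsg.ControlsStrongFusion p (Cfsg.centerThompsonAOf (S : Subgroup G))) :
    Concl p (Cfsg.centerThompsonAOf (S : Subgroup G)) :=
  by_contra fun hno => h (controls_of_ctrl rfl
    (ctrl_of_noConcl hp _ G rfl S (Cfsg.centerThompsonAOf (S : Subgroup G)) rfl hno))

end Cfsg.Agent.ZJFusion
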